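import Groth.Agent.SchImg.SepAway
import Groth.Agent.SepFam.Mor
import Groth.Agent.S9722
import Groth.Prelude.Def_CInt
import Mathlib.AlgebraicGeometry.Morphisms.Flat

/-!
# Schematic density is local for the etale topology
-/

set_option autoImplicit false
set_option backward.isDefEq.respectTransparency false
set_option linter.style.haveILetI false

universe u

open CategoryTheory CategoryTheory.Limits AlgebraicGeometry TopologicalSpace Opposite TensorProduct

namespace Groth.Agent.SchImg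

open Groth.Agent.QC Groth.Agent.SepFam

theorem sepMor_ι_iff {X : Scheme.{u}} (W : X.Opens) :
    SepMor (fun _ : PUnit.{u + 1} => W.ι) ↔ CInt.IsSchematicallyDense W := by
  constructor
  · intro h V
    refine (injective_iff_map_eq_zero _).2 fun s hs => h V s fun _ => ?_
    have h2 := congrArg (resO X (show W.ι ''ᵁ (W.ι ⁻¹ᵁ V) ≤ V ⊓ W from by
      rintro _ ⟨y, hy, rfl⟩; exact ⟨hy, y.2⟩)) hs
    rw [map_zero] at h2
    refine Eq.trans ?_ h2
    exact (resO_resO _ _ _).symm
  · intro h V s hs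
    refine h V ?_
    rw [map_zero]
    have h2 := congrArg (resO X (show V ⊓ W ≤ W.ι ''ᵁ (W.ι ⁻¹ᵁ V) from
      fun y hy => ⟨⟨y, hy.2⟩, hy.1, rfl⟩)) (hs PUnit.unit)
    rw [map_zero] at h2
    refine Eq.trans ?_ h2
    exact (resO_resO _ _ _).symm

theorem sepBC_tensor_of_surjective {B : Type u} [CommRing B] {M : Type u} [AddCommGroup M] [Module B M]
    {ι : Type u} {N : ι → Type u} [∀ i, AddCommGroup (N i)] [∀ i, Module B (N i)] (u : ∀ i, M →ₗ[B] N i)
    {A : Type u} [CommRing A] [Algebra A B] (C : Type u) [CommRing C] [Algebra A C] [Algebra B C]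
    [IsScalarTower A B C] (hs : Function.Surjective (algebraMap A B)) (h : SepBC u C) :
    SepBC u (B ⊗[A] C) := by
  let φ : B ⊗[A] C →ₐ[B] C :=
    Algebra.TensorProduct.lift (Algebra.ofId B C) (AlgHom.id A C) fun x y => mul_comm _ _
  have hone : ∀ z : B ⊗[A] C, z = 1 ⊗ₜ φ z := by
    intro z
    induction z using TensorProduct.induction_on with
    | zero => simp
    | tmul b c =>
      obtain ⟨a, rfl⟩ := hs b
      rw [Algebra.TensorProduct.lift_tmul, Algebra.algebraMap_eq_smul_one, TensorProduct.smul_tmul]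
      congr 1
      simp [Algebra.smul_def, IsScalarTower.algebraMap_apply A B C]
    | add x y hx hy => rw [map_add, TensorProduct.tmul_add, ← hx, ← hy]
  refine sepBC_of_algEquiv u (AlgEquiv.ofBijective φ ⟨fun x y hxy => ?_, fun c => ⟨1 ⊗ₜ c, ?_⟩⟩).symm h
  · rw [hone x, hone y, hxy]
  · simp [φ]

/-- the preimage of a schematically dense open under an etale morphism is schematically dense -/
theorem dense_preimage_etale {X' X : Scheme.{u}} (c : X' ⟶ X) [Etale c] {W : X.Opens}
    (h : CInt.IsSchematicallyDense W) : CInt.IsSchematicallyDense (c ⁻¹ᵁ W) := by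
  rw [← sepMor_ι_iff] at h ⊢
  refine sepMor_of_cover _ fun x => ?_
  obtain ⟨U, hU, hxU, -⟩ := exists_isAffineOpen_mem_and_subset (TopologicalSpace.Opens.mem_top (c x))
  obtain ⟨O, hO, hxO, e, hstd⟩ := (S9722.result c x U hU hxU).1 ⟨⊤, trivial, inferInstance⟩
  let f : PUnit.{u + 1} → ((W : Scheme.{u}) ⟶ X) := fun _ => W.ι
  have hpb : IsPullback c (𝟙 X') (𝟙 X) c := IsPullback.of_vert_isIso ⟨by simp⟩
  have hp := piece_iff_mor f hpb (fun _ : PUnit.{u + 1} => (c ⁻¹ᵁ W).ι) (fun _ => c ∣_ W)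
    (fun _ => isPullback_morphismRestrict c W) hU hU (le_rfl : U ≤ (𝟙 X) ⁻¹ᵁ U) hO e
  obtain ⟨hWaff, hWj, hiff⟩ := hp
  refine ⟨c ⁻¹ᵁ U ⊓ (𝟙 X') ⁻¹ᵁ O, hWaff, ⟨show c x ∈ U from hxU, hxO⟩, Piece f U, fun j => j.1, _,
    fun j => inf_le_right, hWj, hiff.2 ?_⟩
  letI := (c.appLE U O e).hom.toAlgebra
  letI := fun j : Piece f U => pieceAlg f (i := j.1) j.2.2.2
  haveI : Algebra.IsStandardEtale Γ(X, U) Γ(X', O) := hstd
  letI a' : Algebra Γ(X, U) Γ(X, U) := ((𝟙 X : X ⟶ X).appLE U U le_rfl).hom.toAlgebra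
  have hid : ∀ r, ((𝟙 X : X ⟶ X).appLE U U le_rfl).hom r = r := fun r => by
    simp [Scheme.Hom.appLE]
    exact congr($(X.presheaf.map_id (op U)) r)
  haveI : @IsScalarTower Γ(X, U) Γ(X, U) Γ(X', O) a'.toSMul Algebra.toSMul Algebra.toSMul :=
    @IsScalarTower.of_algebraMap_eq _ _ _ _ _ _ a' _ _ fun r => congrArg (c.appLE U O e).hom (hid r).symm
  refine sepBC_tensor_of_surjective (A := Γ(X, U)) _ Γ(X', O) (fun r => ⟨r, hid r⟩) (sepBC_standardEtale _ _ ?_)
  · refine sepOn_of_sepMor f (fun j : Piece f U => j.1) (fun j => j.2.1) (fun j => j.2.2.2) h hU fun i z hz => ?_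
    obtain ⟨D, hD, hzD, hDU⟩ := exists_isAffineOpen_mem_and_subset (X := (W : Scheme.{u})) (x := z) (U := f i ⁻¹ᵁ U) hz
    exact ⟨⟨i, D, hD, hDU⟩, rfl, hzD⟩

/-- schematic density descends along flat surjective morphisms -/
theorem dense_of_preimage {X' X : Scheme.{u}} (c : X' ⟶ X) [Flat c] [Surjective c] {W : X.Opens}
    (h : CInt.IsSchematicallyDense (c ⁻¹ᵁ W)) : CInt.IsSchematicallyDense W := fun V => by
  refine (injective_iff_map_eq_zero _).2 fun s hs => ?_
  have h0 : c.app V s = 0 := by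
    refine h (c ⁻¹ᵁ V) ?_
    rw [map_zero]
    have h2 := congrArg (c.app (V ⊓ W)) hs
    rw [map_zero] at h2
    refine Eq.trans ?_ h2
    exact (congr($(c.naturality (homOfLE (inf_le_left : V ⊓ W ≤ V)).op).hom s)).symm
  refine TopCat.Presheaf.section_ext X.sheaf V s 0 fun v hv => ?_
  obtain ⟨t, rfl⟩ := c.surjective v
  have hinj : Function.Injective (c.stalkMap t).hom := by
    algebraize [(c.stalkMap t).hom]
    have : Module.Flat (X.presheaf.stalk (c t)) (X'.presheaf.stalk t) := (Flat.iff_flat_stalkMap c).1 ‹_› t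
    have : IsLocalHom (algebraMap (X.presheaf.stalk (c t)) (X'.presheaf.stalk t)) :=
      inferInstanceAs (IsLocalHom (c.stalkMap t).hom)
    have : Module.FaithfullyFlat (X.presheaf.stalk (c t)) (X'.presheaf.stalk t) :=
      Module.FaithfullyFlat.of_flat_of_isLocalHom
    exact FaithfulSMul.algebraMap_injective _ _
  apply hinj
  show (c.stalkMap t) ((X.presheaf.germ V (c t) hv) s) = (c.stalkMap t) ((X.presheaf.germ V (c t) hv) 0)
  rw [map_zero, map_zero, Scheme.Hom.germ_stalkMap_apply, h0, map_zero]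

end Groth.Agent.SchImg
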