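import Groth.Agent.SchImg.Range
import Groth.Agent.SchImg.DenseEtale
import Groth.Agent.SectExtU.Dense
import Groth.Agent.Bootstrap.Cover
import Groth.Agent.AlgSpLib.DiagCrit
import Groth.Agent.AlgSpLib.ProperRange

/-!
# Scheme theoretically dense open subspaces
-/

set_option autoImplicit false

universe u

open CategoryTheory CategoryTheory.Limits AlgebraicGeometry

set_option backward.isDefEq.respectTransparency false

namespace Groth.Agent.SchImg

open _root_.AlgSp Groth.Agent.AlgSpLib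

variable {S : Scheme.{u}} {X Y Z : Sp S}

theorem exists_open_pullback {G F : Sp S} {j : G ⟶ F} (hj : RepWith @IsOpenImmersion j) {V : Over S}
    (φ : (yon S).obj V ⟶ F) : ∃ (W : V.left.Opens) (fst : (yon S).obj (Over.mk (W.ι ≫ V.hom)) ⟶ G),
      IsPullback fst ((yon S).map (Over.homMk W.ι rfl : Over.mk (W.ι ≫ V.hom) ⟶ V)) j φ := by
  obtain ⟨V', z, v, sq, hv⟩ := exists_repWith hj φ
  have : IsOpenImmersion v.left := hv
  have h : v.left.isoOpensRange.hom ≫ v.left.opensRange.ι = v.left := v.left.isoOpensRange_hom_ι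
  let e : V' ≅ Over.mk (v.left.opensRange.ι ≫ V.hom) := Over.isoMk v.left.isoOpensRange (by
    show v.left.isoOpensRange.hom ≫ v.left.opensRange.ι ≫ V.hom = V'.hom
    rw [reassoc_of% h, Over.w v])
  refine ⟨v.left.opensRange, (yon S).map e.inv ≫ z, sq.of_iso ((yon S).mapIso e) (Iso.refl _) (Iso.refl _)
    (Iso.refl _) (by simp) ?_ (by simp) (by simp)⟩
  simp only [Iso.refl_hom, Category.comp_id, Functor.mapIso_hom, ← Functor.map_comp]
  exact congrArg _ (Over.OverMorphism.ext h).symm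

/-- the open is the preimage of the range -/
theorem mem_open_iff {G F : Sp S} {j : G ⟶ F} {V : Over S} {φ : (yon S).obj V ⟶ F} {W : V.left.Opens}
    {fst : (yon S).obj (Over.mk (W.ι ≫ V.hom)) ⟶ G}
    (sq : IsPullback fst ((yon S).map (Over.homMk W.ι rfl : Over.mk (W.ι ≫ V.hom) ⟶ V)) j φ) (v : ↥V.left) :
    v ∈ W ↔ Points.ofPt φ v ∈ Set.range (Points.map j) := by
  refine ⟨fun h => ⟨Points.ofPt fst ⟨v, h⟩, by rw [Points.map_ofPt, sq.w, ofPt_comp]; rfl⟩, fun ⟨x, hx⟩ => ?_⟩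
  obtain ⟨T, g, t, rfl⟩ := exists_ofPt x
  rw [Points.map_ofPt] at hx
  obtain ⟨K, α, β, k, e, -, rfl⟩ := exists_of_ofPt_eq hx
  obtain ⟨m, hm⟩ := exists_map_eq (sq.lift ((yon S).map α ≫ g) ((yon S).map β) (by rw [Category.assoc]; exact e))
  have : m ≫ (Over.homMk W.ι rfl : Over.mk (W.ι ≫ V.hom) ⟶ V) = β := (yon S).map_injective (by
    rw [Functor.map_comp, hm, sq.lift_snd])
  rw [← this]
  exact (m.left k).2

/-- density holds on every etale chart -/
theorem dense_of_schDense {G : Sp S} {j : G ⟶ X} (hX : IsAlgSpace X) (hj : IsSchDense j) {V : Over S}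
    {φ : (yon S).obj V ⟶ X} (hφ : RepWith @Etale φ) {W : V.left.Opens}
    {fst : (yon S).obj (Over.mk (W.ι ≫ V.hom)) ⟶ G}
    (sq : IsPullback fst ((yon S).map (Over.homMk W.ι rfl : Over.mk (W.ι ≫ V.hom) ⟶ V)) j φ) :
    CInt.IsSchematicallyDense W := by
  obtain ⟨-, V₀, φ₀, W₀, fst₀, hφ₀, hφ₀s, sq₀, hW₀⟩ := hj
  obtain ⟨V₁, e, β, sqV⟩ := exists_pullback hX.diag φ φ₀
  have : Etale e.left := (repWith_yon_iff e).1 (repWith_baseChange sqV.flip hφ₀)
  have : Surjective e.left := (repWith_yon_iff e).1 (repWith_baseChange sqV.flip hφ₀s)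
  have : Etale β.left := (repWith_yon_iff β).1 (repWith_baseChange sqV hφ)
  have heq : e.left ⁻¹ᵁ W = β.left ⁻¹ᵁ W₀ := by
    ext v
    show e.left v ∈ W ↔ β.left v ∈ W₀
    rw [mem_open_iff sq, mem_open_iff sq₀, ← ofPt_comp, ← ofPt_comp, sqV.w]
  exact dense_of_preimage e.left (heq ▸ dense_preimage_etale β.left hW₀)

theorem kerIdeal_eq_ker_of_yon {f : X ⟶ Y} {U W : Over S} {φ : (yon S).obj U ⟶ Y}
    {fst : (yon S).obj W ⟶ X} {g : W ⟶ U} (sq : IsPullback fst ((yon S).map g) f φ) :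
    kerIdeal f φ = g.left.ker :=
  kerIdeal_eq_ker (IsAlgSpace.yon_obj W) sq (c := 𝟙 _) (Bootstrap.repWith_id _) (Bootstrap.repWith_id _)
    (Category.id_comp _).symm

theorem quasiCompact_ι {G : Sp S} {j : G ⟶ X} (hG : IsAlgSpace G) (hX : IsAlgSpace X)
    (hj : RepWith @IsOpenImmersion j) (hq : IsQuasiCompactMor j) {V : Over S} {φ : (yon S).obj V ⟶ X}
    {W : V.left.Opens} {fst : (yon S).obj (Over.mk (W.ι ≫ V.hom)) ⟶ G}
    (sq : IsPullback fst ((yon S).map (Over.homMk W.ι rfl : Over.mk (W.ι ≫ V.hom) ⟶ V)) j φ) :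
    QuasiCompact W.ι :=
  ((isQuasiCompactMor_iff_repWith hG hX hj.1).1 hq).2 φ fst _ sq

theorem isPullIdeal_id {U : Over S} (φ : (yon S).obj U ⟶ Y) : IsPullIdeal (𝟙 Y) φ ⊥ := fun _ α =>
  ⟨fun _ => Scheme.IdealSheafData.comap_bot α.left, fun _ => ⟨_, Category.comp_id _⟩⟩

/-- a quasi-compact open subspace is dense iff its closure is everything -/
theorem schDense_iff_schImage {G : Sp S} {j : G ⟶ X} (hG : IsAlgSpace G) (hX : IsAlgSpace X)
    (hj : RepWith @IsOpenImmersion j) (hq : IsQuasiCompactMor j) : IsSchDense j ↔ IsSchImage j (𝟙 X) := by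
  refine ⟨fun h => ?_, fun h => ⟨hj, ?_⟩⟩
  · obtain ⟨-, V, φ, W, fst, hφ, hφs, sq, hW⟩ := h
    have := quasiCompact_ι hG hX hj hq sq
    refine isSchImage_of_kerIdeal hG hX (Bootstrap.repWith_id X) hφ hφs ?_
    rw [kerIdeal_eq_ker_of_yon sq]
    show IsPullIdeal (𝟙 X) φ W.ι.ker
    rw [SectExtU.ker_ι_eq_bot hW]
    exact isPullIdeal_id φ
  · obtain ⟨U, π, hπ, hπs⟩ := hX.atlas
    obtain ⟨W, fst, sq⟩ := exists_open_pullback hj π
    refine ⟨U, π, W, fst, hπ, hπs, sq, ?_⟩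
    have := quasiCompact_ι hG hX hj hq sq
    have h0 : W.ι.ker = ⊥ := (kerIdeal_eq_ker_of_yon sq).symm.trans
      ((pullIdeal_eq_kerIdeal_atlas hG hX hq h hπ hπs).unique (isPullIdeal_id π))
    have : IsSchemeTheoreticallyDominant W.ι := ⟨h0⟩
    exact SectExtU.isSchematicallyDense_of_ι

theorem dense_inf {V : Scheme.{u}} {A B : V.Opens} (hA : CInt.IsSchematicallyDense A)
    (hB : CInt.IsSchematicallyDense B) : CInt.IsSchematicallyDense (A ⊓ B) := fun O s t h => by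
  refine hA O (hB (O ⊓ A) ?_)
  have e : O ⊓ A ⊓ B ≤ O ⊓ (A ⊓ B) := le_of_eq (inf_assoc O A B)
  have h' := congrArg (V.presheaf.map (homOfLE e).op) h
  rw [← CategoryTheory.comp_apply, ← CategoryTheory.comp_apply, ← Functor.map_comp] at h'
  rw [← CategoryTheory.comp_apply, ← CategoryTheory.comp_apply, ← Functor.map_comp]
  exact h'

theorem isQuasiCompactMor_baseChange {X' Y' : Sp S} {f : X ⟶ Y} {f' : X' ⟶ Y'} {u : Y' ⟶ Y} {v : X' ⟶ X}
    (sq : IsPullback v f' f u) (h : IsQuasiCompactMor f) : IsQuasiCompactMor f' :=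
  fun _ _ hZ hZq g fst snd sqZ => h hZ hZq (g ≫ u) (fst ≫ v) snd (sqZ.paste_horiz sq)

end Groth.Agent.SchImg
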