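import Groth.Agent.SchImg.Range
import Groth.Agent.S2121

/-!
# Points of scheme theoretic images are reached by valuation rings
-/

set_option autoImplicit false

universe u

open CategoryTheory CategoryTheory.Limits AlgebraicGeometry

set_option backward.isDefEq.respectTransparency false

namespace Groth.Agent.SchImg

open _root_.AlgSp Groth.Agent.AlgSpLib

variable {S : Scheme.{u}} {X Y Z : Sp S}

theorem injective_map_of_mono {i : Z ⟶ Y} [Mono i] : Function.Injective (Points.map i) := fun x y e => by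
  obtain ⟨T, a, t, rfl⟩ := exists_ofPt x
  obtain ⟨T', b, t', rfl⟩ := exists_ofPt y
  rw [Points.map_ofPt, Points.map_ofPt] at e
  obtain ⟨K, α, β, k, h, rfl, rfl⟩ := exists_of_ofPt_eq e
  rw [← Category.assoc, ← Category.assoc] at h
  rw [← ofPt_comp, ← ofPt_comp, (cancel_mono i).1 h]

theorem ker_specMap_of_injective {R R' : CommRingCat.{u}} (φ : R ⟶ R') (h : Function.Injective φ.hom) :
    (Spec.map φ).ker = ⊥ := by
  apply Scheme.IdealSheafData.ext_of_isAffine
  rw [Scheme.Hom.ker_apply, Scheme.IdealSheafData.ideal_bot, Pi.bot_apply]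
  refine (RingHom.injective_iff_ker_eq_bot _).1 fun a b hab => ?_
  have hn := congr($(Scheme.ΓSpecIso_naturality φ).hom)
  apply (Scheme.ΓSpecIso R).commRingCatIsoToRingEquiv.injective
  apply h
  have ha := congr($hn a)
  have hb := congr($hn b)
  simp only [CommRingCat.hom_comp, RingHom.comp_apply] at ha hb
  refine (ha.symm.trans ?_).trans hb
  exact congrArg (Scheme.ΓSpecIso R').hom hab

/-- valuation rings reach every point of the image -/
theorem exists_valuation_point {f : X ⟶ Y} (hX : IsAlgSpace X) (hY : IsAlgSpace Y) (hf : IsQuasiCompactMor f)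
    {i : Z ⟶ Y} (h : IsSchImage f i) (z : Points Z) :
    ∃ (A : Type u) (_ : CommRing A) (_ : IsDomain A) (_ : ValuationRing A) (str : Spec (CommRingCat.of A) ⟶ S)
      (a : (yon S).obj (Over.mk str) ⟶ Z)
      (x : (yon S).obj (Over.mk (Spec.map (CommRingCat.ofHom (algebraMap A (FractionRing A))) ≫ str)) ⟶ X),
      Points.ofPt a (IsLocalRing.closedPoint A) = z ∧
      x ≫ f = (yon S).map (Over.homMk (Spec.map (CommRingCat.ofHom (algebraMap A (FractionRing A)))) rfl) ≫
        a ≫ i := by
  obtain ⟨U, π, hπ, hπs⟩ := hY.atlas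
  obtain ⟨u, hu⟩ := ofPt_surjective hπs (Points.map i z)
  have hI := pullIdeal_eq_kerIdeal_atlas hX hY hf h hπ hπs
  have hsupp := (hI.mem_range_iff u).1 ⟨z, hu.symm⟩
  obtain ⟨O, hO, huO, -⟩ := exists_isAffineOpen_mem_and_subset (TopologicalSpace.Opens.mem_top u)
  let UO : Over S := Over.mk (O.ι ≫ U.hom)
  let jO : UO ⟶ U := Over.homMk O.ι rfl
  have : IsAffine UO.left := hO
  obtain ⟨W, c, g, hce, hcs, hg, hqc⟩ := exists_qc_atlas hX hY hf ((yon S).map jO ≫ π)
  have sq := IsPullback.of_hasPullback f ((yon S).map jO ≫ π)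
  have hP : IsAlgSpace (pullback f ((yon S).map jO ≫ π)) :=
    isAlgSpace_of_isPullback_space hY hX (IsAlgSpace.yon_obj UO) sq
  have key : g.left.ker = (kerIdeal f π).comap O.ι :=
    (kerIdeal_eq_ker hP sq hce hcs hg).symm.trans (kerIdeal_comap_open hX hY hf π O hO)
  have hmem : (⟨u, huO⟩ : O) ∈ g.left.ker.support := by
    rw [key, Scheme.IdealSheafData.support_comap]
    exact hsupp
  rw [← SetLike.mem_coe, Scheme.Hom.support_ker] at hmem
  obtain ⟨A, i1, i2, i3, x, y, hxy, hy⟩ := S2121.result g.left ⟨u, huO⟩ hmem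
  let str : Spec (CommRingCat.of A) ⟶ S := y ≫ UO.hom
  let T : Over S := Over.mk str
  let K : Over S := Over.mk (Spec.map (CommRingCat.ofHom (algebraMap A (FractionRing A))) ≫ str)
  let yT : T ⟶ UO := Over.homMk y rfl
  let xK : K ⟶ W := Over.homMk x (by
    show x ≫ W.hom = Spec.map _ ≫ y ≫ UO.hom
    rw [← Over.w g, reassoc_of% hxy])
  let ρ : K ⟶ T := Over.homMk (Spec.map (CommRingCat.ofHom (algebraMap A (FractionRing A)))) rfl
  have h0 : (kerIdeal f π).comap (yT ≫ jO).left = ⊥ := by
    rw [Over.comp_left, Scheme.IdealSheafData.comap_comp]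
    show ((kerIdeal f π).comap O.ι).comap y = ⊥
    rw [← key, comap_eq_bot_iff]
    refine (Scheme.Hom.le_ker_comp x g.left).trans ?_
    rw [hxy, Scheme.Hom.ker_comp, ker_specMap_of_injective _ (IsFractionRing.injective A (FractionRing A)),
      Scheme.IdealSheafData.map_bot]
  obtain ⟨a, ha⟩ := (hI (yT ≫ jO)).2 h0
  refine ⟨A, i1, i2, i3, str, a, (yon S).map xK ≫ c ≫ pullback.fst _ _, ?_, ?_⟩
  · have := mono_of_closed h.1
    refine injective_map_of_mono (i := i) ?_
    rw [Points.map_ofPt, ha, ofPt_comp, ← hu]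
    congr 1
    show O.ι (y (IsLocalRing.closedPoint A)) = u
    rw [show y (IsLocalRing.closedPoint A) = _ from hy]
    rfl
  · rw [show a ≫ i = (yon S).map (yT ≫ jO) ≫ π from ha, Category.assoc, Category.assoc, pullback.condition,
      ← reassoc_of% hg, ← Functor.map_comp_assoc, ← Functor.map_comp_assoc, ← Functor.map_comp_assoc, Category.assoc]
    congr 2
    exact Over.OverMorphism.ext (by
      show x ≫ g.left ≫ O.ι = Spec.map _ ≫ y ≫ O.ι
      rw [reassoc_of% hxy])

end Groth.Agent.SchImg
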