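import Groth.Agent.SchImg.LimTop
import Groth.Agent.SpQS.Spectral
import Groth.Agent.AlgSpLib.Subspace
import Groth.Agent.AlgSpLib.PointMisc
import Groth.Agent.S10179

/-!
# Quasi-compact opens of a limit come from a stage
-/

set_option autoImplicit false

universe u

open CategoryTheory CategoryTheory.Limits AlgebraicGeometry

set_option backward.isDefEq.respectTransparency false

namespace Groth.Agent.SchImg

open _root_.AlgSp Groth.Agent.AlgSpLib

variable {S : Scheme.{u}}

theorem exists_qc_open_stage {I : Type u} [SmallCategory I] [IsCofiltered I] (D : I ⥤ Sp S)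
    (hD : ∀ i, IsAlgSpace (D.obj i)) (hDa : ∀ (i j : I) (φ : i ⟶ j), IsAffineMor (D.map φ))
    (c : Cone D) (hc : IsLimit c) {O : Set (Points c.pt)} (hO : IsOpen O) (hOc : IsCompact O) :
    ∃ (i : I) (A : Set (Points (D.obj i))), IsOpen A ∧ IsCompact A ∧ Points.map (c.π.app i) ⁻¹' A = O := by
  have hloc : ∀ x : O, ∃ (i : I) (A : Set (Points (D.obj i))), IsOpen A ∧ IsCompact A ∧
      Points.map (c.π.app i) x.1 ∈ A ∧ Points.map (c.π.app i) ⁻¹' A ⊆ O := fun x => by
    obtain ⟨i, A, hA, hxA, hsub⟩ := exists_stage_nhd D hD hDa c hc hO x.2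
    obtain ⟨B, hB, hBc, hxB, hBA⟩ := S10179.result ⟨D.obj i, hD i⟩ _ A hA hxA
    exact ⟨i, B, hB, hBc, hxB, (Set.preimage_mono hBA).trans hsub⟩
  choose iI A hA hAc hxA hsub using hloc
  obtain ⟨t, ht⟩ := hOc.elim_finite_subcover (fun x : O => Points.map (c.π.app (iI x)) ⁻¹' A x)
    (fun x => (hA x).preimage (Points.continuous_map _)) fun x hx => Set.mem_iUnion.2 ⟨⟨x, hx⟩, hxA ⟨x, hx⟩⟩
  classical
  obtain ⟨i₀⟩ := IsCofiltered.nonempty (C := I)
  obtain ⟨j, hj⟩ := IsCofiltered.inf_objs_exists (insert i₀ (t.image iI))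
  have f : ∀ x ∈ t, Nonempty (j ⟶ iI x) := fun x hx =>
    hj (Finset.mem_insert_of_mem (Finset.mem_image_of_mem iI hx))
  refine ⟨j, ⋃ x : {x // x ∈ t}, Points.map (D.map (f x.1 x.2).some) ⁻¹' A x.1,
    isOpen_iUnion fun x => (hA x.1).preimage (Points.continuous_map _), ?_, ?_⟩
  · refine isCompact_iUnion fun x => ?_
    have hm := (isAffineMor_iff_repWith _).1 (hDa j (iI x.1) (f x.1 x.2).some)
    exact SpQS.isCompact_preimage (hD _) ((isQuasiCompactMor_iff_repWith (hD j) (hD _) hm.1).2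
      (repWith_mono (fun _ _ r hr => by
        have : IsAffineHom r := hr
        infer_instance) hm)) _ (hA x.1) (hAc x.1)
  · have e : ∀ (x : {x // x ∈ t}) (y : Points c.pt),
        Points.map (D.map (f x.1 x.2).some) (Points.map (c.π.app j) y) = Points.map (c.π.app (iI x.1)) y := fun x y => by
      rw [← Points.map_comp, c.w]
    ext y
    simp only [Set.mem_preimage, Set.mem_iUnion, e]
    refine ⟨fun ⟨x, hx⟩ => hsub x.1 hx, fun hy => ?_⟩
    obtain ⟨x, hx, hxy⟩ := Set.mem_iUnion₂.1 (ht hy)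
    exact ⟨⟨x, hx⟩, hxy⟩

theorem exists_qc_open_subspace_stage {I : Type u} [SmallCategory I] [IsCofiltered I] (D : I ⥤ Sp S)
    (hD : ∀ i, IsAlgSpace (D.obj i)) (hDa : ∀ (i j : I) (φ : i ⟶ j), IsAffineMor (D.map φ))
    (c : Cone D) (hc : IsLimit c) {U : Sp S} (j : U ⟶ c.pt) (hj : RepWith @IsOpenImmersion j)
    (hU : IsQuasiCompactSp U) :
    ∃ (i : I) (Ui : Sp S) (ji : Ui ⟶ D.obj i) (q : U ⟶ Ui),
      RepWith @IsOpenImmersion ji ∧ IsQuasiCompactSp Ui ∧ IsPullback j q (c.π.app i) ji := by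
  have hXa := isAlgSpace_lim D hD hDa c hc
  have hUa : IsAlgSpace U := isAlgSpace_of_repBySp (Representable.repBySp hj.1) hXa
  have := compactSpace_of_isQuasiCompactSp hU
  obtain ⟨he, -⟩ := immersion_topology hXa (repWith_mono (P := @IsOpenImmersion) (Q := @IsImmersion)
    (fun _ _ g hg => have : IsOpenImmersion g := hg; inferInstance) hj)
  obtain ⟨hopen⟩ : Nonempty (IsOpen (Set.range (Points.map j))) := ⟨by
    rw [Points.isOpen_iff]
    intro T g
    obtain ⟨W, fst, sq⟩ := exists_open_pullback hj g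
    rw [show Points.ofPt g ⁻¹' Set.range (Points.map j) = (W : Set T.left) from
      Set.ext fun t => (mem_open_iff sq t).symm]
    exact W.2⟩
  obtain ⟨i, A, hA, hAc, hAO⟩ := exists_qc_open_stage D hD hDa c hc hopen (isCompact_range (Points.continuous_map j))
  have hUi := isAlgSpace_subSheaf (hD i) hA
  obtain ⟨q, hq⟩ := (exists_factor_iff hUi (hD i) (subInc A) (repWith_subInc hA) (j ≫ c.π.app i)).2 (by
    rw [range_subInc]
    rintro _ ⟨y, rfl⟩
    rw [Points.map_comp]
    exact hAO.ge ⟨y, rfl⟩)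
  have hm₁ : Mono (subInc A) := mono_of_repWith_immersion (repWith_mono (P := @IsOpenImmersion) (Q := @IsImmersion)
    (fun _ _ g hg => have : IsOpenImmersion g := hg; inferInstance) (repWith_subInc hA))
  have hm₂ : Mono j := mono_of_repWith_immersion (repWith_mono (P := @IsOpenImmersion) (Q := @IsImmersion)
    (fun _ _ g hg => have : IsOpenImmersion g := hg; inferInstance) hj)
  refine ⟨i, subSheaf A, subInc A, q, repWith_subInc hA, ?_, isPullback_of_points hq.symm fun T a b e => ?_⟩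
  · obtain ⟨hei, -⟩ := immersion_topology (hD i) (repWith_mono (P := @IsOpenImmersion) (Q := @IsImmersion)
      (fun _ _ g hg => have : IsOpenImmersion g := hg; inferInstance) (repWith_subInc hA))
    have : CompactSpace (Points (subSheaf A)) := ⟨hei.isCompact_iff.2 (by rwa [Set.image_univ, range_subInc])⟩
    exact isQuasiCompactSp_of_compactSpace hUi
  · obtain ⟨l, hl⟩ := (exists_factor_iff hUa hXa j hj a).2 (by
      rintro _ ⟨y, rfl⟩
      rw [← hAO]
      show Points.map (c.π.app i) (Points.map a y) ∈ A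
      rw [← Points.map_comp, e, Points.map_comp]
      exact (range_subInc A).le ⟨_, rfl⟩)
    exact ⟨l, ⟨hl, (cancel_mono (subInc A)).1 (by rw [Category.assoc, hq, reassoc_of% hl, e])⟩,
      fun m hm => (cancel_mono j).1 (hm.1.trans hl.symm)⟩

end Groth.Agent.SchImg
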