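import Groth.Agent.SchImg.IdealRepQcoh

/-!
# Closed subspaces cut out by ideal sheaves
-/

set_option autoImplicit false

universe u

open CategoryTheory CategoryTheory.Limits AlgebraicGeometry

set_option backward.isDefEq.respectTransparency false

namespace Groth.Agent.SchImg

open _root_.AlgSp Groth.Agent.AlgSpLib

variable {S : Scheme.{u}} {X Y Z Z' : Sp S}

theorem le_of_forall_comap_affine {U : Scheme.{u}} {I J : U.IdealSheafData}
    (h : ∀ O : U.Opens, IsAffineOpen O → I.comap O.ι ≤ J.comap O.ι) : I ≤ J :=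
  sup_eq_right.1 (eq_of_forall_comap_affine fun O hO => by
    rw [Scheme.IdealSheafData.comap_sup, sup_eq_right.2 (h O hO)])

theorem idealEt_le_iff_factors {i : Z ⟶ Y} {i' : Z' ⟶ Y} (hY : IsAlgSpace Y) {I I' : IdealEt Y}
    (h : IsCutOutBy I i) (h' : IsCutOutBy I' i') : I ≤ I' ↔ ∃ k : Z' ⟶ Z, k ≫ i = i' := by
  obtain ⟨hi, e⟩ := h
  obtain ⟨hi', e'⟩ := h'
  refine ⟨fun hle => ?_, fun ⟨k, hk⟩ E hE => ?_⟩
  · obtain ⟨U, π, hπ, hπs⟩ := hY.atlas
    obtain ⟨J, hJ⟩ := exists_pullIdeal hi π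
    obtain ⟨J', hJ'⟩ := exists_pullIdeal hi' π
    refine exists_factor_of_le hi (isAlgSpace_of_closed hY hi') hY hπ hπs hJ
      ((le_of_forall_comap_affine fun O hO => ?_).trans hJ'.le_kerIdeal_self)
    let j : Over.mk (O.ι ≫ U.hom) ⟶ U := Over.homMk O.ι rfl
    have : IsAffine (O : Scheme.{u}) := hO
    refine Scheme.IdealSheafData.le_of_isAffine ?_
    show (J.comap j.left).ideal _ ≤ (J'.comap j.left).ideal _
    rw [← idealOfRep_eq hi (openChart hπ O) hO (hJ.comap j), ← idealOfRep_eq hi' (openChart hπ O) hO (hJ'.comap j),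
      e, e']
    exact hle (openChart hπ O) hO
  · obtain ⟨J, hJ⟩ := exists_pullIdeal hi E.obj.hom
    obtain ⟨J', hJ'⟩ := exists_pullIdeal hi' E.obj.hom
    rw [← e, ← e', idealOfRep_eq hi E hE hJ, idealOfRep_eq hi' E hE hJ']
    exact hJ'.le_of_factor hJ k hk _

theorem comap_eq_bot_of_map_top {U V : Scheme.{u}} [IsAffine V] (g : U ⟶ V) (J : V.IdealSheafData)
    (h : (J.ideal ⟨⊤, isAffineOpen_top V⟩).map g.appTop.hom = ⊥) : J.comap g = ⊥ :=
  eq_of_forall_comap_affine fun W hW => by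
    have : IsAffine (W : Scheme.{u}) := hW
    rw [Scheme.IdealSheafData.comap_bot, ← Scheme.IdealSheafData.comap_comp]
    refine Scheme.IdealSheafData.ext_of_isAffine ?_
    rw [ideal_comap_top, Scheme.Hom.comp_appTop, CommRingCat.hom_comp, ← Ideal.map_map, h, Ideal.map_bot]
    rfl

theorem factors_iff_le_idealOfRep {i : Z ⟶ Y} (hY : IsAlgSpace Y) {I : IdealEt Y} (hZ : IsCutOutBy I i)
    (hX : IsAlgSpace X) {h : X ⟶ Y} (hh : Representable h) :
    (∃ k : X ⟶ Z, k ≫ i = h) ↔ I ≤ idealOfRep hh := by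
  obtain ⟨hi, rfl⟩ := hZ
  refine ⟨fun ⟨k, hk⟩ E hE => ?_, fun hle => ?_⟩
  · obtain ⟨J, hJ⟩ := exists_pullIdeal hi E.obj.hom
    have hsq := EtOver.isPullback_bcObj hh E
    have hb : J.comap (EtOver.bcπ hh E).left = ⊥ :=
      (hJ (EtOver.bcπ hh E)).1 ⟨(EtOver.bcObj hh E).obj.hom ≫ k, by rw [Category.assoc, hk, hsq.w]⟩
    rw [idealOfRep_eq hi E hE hJ]
    exact ((comap_eq_bot_iff _ _).1 hb _).trans (Scheme.Hom.ideal_ker_le _ ⟨⊤, isAffineOpen_top _⟩)
  · obtain ⟨U, π, hπ, hπs⟩ := hY.atlas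
    obtain ⟨J, hJ⟩ := exists_pullIdeal hi π
    refine exists_factor_of_le hi hX hY hπ hπs hJ ((kills_iff h π J).1 fun T z α w => ?_)
    let ι' := {O : U.left.Opens // IsAffineOpen O}
    refine GrpdFit.eq_of_comap_opens (fun O : ι' => α.left ⁻¹ᵁ O.1) (eq_top_iff.2 fun t _ => ?_) _ _ fun O => ?_
    · obtain ⟨O, hO, hu⟩ := exists_affine_nhd (α.left t)
      exact TopologicalSpace.Opens.mem_iSup.2 ⟨⟨O, hO⟩, hu⟩
    let T' : Over S := Over.mk ((α.left ⁻¹ᵁ O.1).ι ≫ T.hom)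
    let κ : T' ⟶ T := Over.homMk (α.left ⁻¹ᵁ O.1).ι rfl
    let j : Over.mk (O.1.ι ≫ U.hom) ⟶ U := Over.homMk O.1.ι rfl
    let α' : T' ⟶ Over.mk (O.1.ι ≫ U.hom) := Over.homMk (α.left ∣_ O.1) (by
      show (α.left ∣_ O.1) ≫ O.1.ι ≫ U.hom = (α.left ⁻¹ᵁ O.1).ι ≫ T.hom
      rw [morphismRestrict_ι_assoc, Over.w α])
    have hsq := EtOver.isPullback_bcObj hh (openChart hπ O.1)
    obtain ⟨m, hm⟩ := exists_map_eq (hsq.lift ((yon S).map κ ≫ z) ((yon S).map α') (by
      show ((yon S).map κ ≫ z) ≫ h = (yon S).map α' ≫ (yon S).map j ≫ π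
      rw [Category.assoc, w, ← Functor.map_comp_assoc, ← Functor.map_comp_assoc,
        show κ ≫ α = α' ≫ j from Over.OverMorphism.ext (morphismRestrict_ι _ _).symm]))
    have hm' : m ≫ EtOver.bcπ hh (openChart hπ O.1) = α' := (yon S).map_injective (by
      rw [Functor.map_comp, hm]; exact hsq.lift_snd _ _ _)
    have : IsAffine (openChart hπ O.1).obj.left.left := O.2
    have : IsAffine (Over.mk (O.1.ι ≫ U.hom)).left := O.2
    have hb : (J.comap j.left).comap (EtOver.bcπ hh (openChart hπ O.1)).left = ⊥ := by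
      refine comap_eq_bot_of_map_top _ _ (Ideal.map_eq_bot_iff_le_ker _ |>.2 ?_)
      rw [← idealOfRep_eq hi (openChart hπ O.1) O.2 (hJ.comap j)]
      exact hle (openChart hπ O.1) O.2
    rw [Scheme.IdealSheafData.comap_bot, ← Scheme.IdealSheafData.comap_comp, ← morphismRestrict_ι,
      show (α.left ∣_ O.1) = m.left ≫ (EtOver.bcπ hh (openChart hπ O.1)).left from
        (congrArg (fun q => q.left) hm').symm, Category.assoc,
      Scheme.IdealSheafData.comap_comp, Scheme.IdealSheafData.comap_comp]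
    rw [show O.1.ι = j.left from rfl, hb, Scheme.IdealSheafData.comap_bot]

end Groth.Agent.SchImg
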