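import Groth.Agent.SchImg.CartierSub
import Groth.Prelude.Def_AlgSpModX

/-!
# Ideal sheaves on affine etale charts
-/

set_option autoImplicit false

universe u

open CategoryTheory CategoryTheory.Limits AlgebraicGeometry

set_option backward.isDefEq.respectTransparency false

namespace Groth.Agent.SchImg

open _root_.AlgSp Groth.Agent.AlgSpLib Groth.Agent.BlowUpLib

variable {S : Scheme.{u}} {X Z : Sp S}

theorem idealOfRep_eq {i : Z ⟶ X} (hi : RepWith @IsClosedImmersion i) (E : EtOver X)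
    (hE : IsAffine E.obj.left.left) {J : E.obj.left.left.IdealSheafData} (hJ : IsPullIdeal i E.obj.hom J) :
    (idealOfRep hi.1).ideal E hE = J.ideal ⟨⊤, isAffineOpen_top _⟩ := by
  have : IsClosedImmersion (EtOver.bcπ hi.1 E).left := hi.2 _ _ _ (EtOver.isPullback_bcObj hi.1 E)
  rw [hJ.unique (isPullIdeal_ker_of_isPullback (EtOver.isPullback_bcObj hi.1 E)), Scheme.Hom.ker_apply]
  rfl

/-- the etale object of an open of a chart -/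
noncomputable def openChart {U : Over S} {π : (yon S).obj U ⟶ X} (hπ : RepWith @Etale π) (O : U.left.Opens) :
    EtOver X :=
  EtOver.mk ((yon S).map (Over.homMk O.ι rfl : Over.mk (O.ι ≫ U.hom) ⟶ U) ≫ π)
    (repWith_comp ((repWith_yon_iff _).2 (inferInstanceAs (Etale O.ι))) hπ)

/-- pull ideals of a product -/
theorem comap_eq_mul_of_isCutOutBy {Z₁ Z₂ D : Sp S} {i₁ : Z₁ ⟶ X} {i₂ : Z₂ ⟶ X} {i : D ⟶ X}
    {I₁ I₂ : IdealEt X} (h₁ : IsCutOutBy I₁ i₁) (h₂ : IsCutOutBy I₂ i₂) (hD : IsCutOutBy (I₁ * I₂) i)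
    {U : Over S} {π : (yon S).obj U ⟶ X} (hπ : RepWith @Etale π) {J J₁ J₂ : U.left.IdealSheafData}
    (hJ₁ : IsPullIdeal i₁ π J₁) (hJ₂ : IsPullIdeal i₂ π J₂) (hJ : IsPullIdeal i π J)
    (O : U.left.Opens) (hO : IsAffineOpen O) : J.comap O.ι = J₁.comap O.ι * J₂.comap O.ι := by
  obtain ⟨hi₁, e₁⟩ := h₁
  obtain ⟨hi₂, e₂⟩ := h₂
  obtain ⟨hi, e⟩ := hD
  let j : Over.mk (O.ι ≫ U.hom) ⟶ U := Over.homMk O.ι rfl
  have : IsAffine (Over.mk (O.ι ≫ U.hom)).left := hO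
  have : IsAffine (openChart hπ O).obj.left.left := hO
  have : IsAffine (O : Scheme.{u}) := hO
  refine Scheme.IdealSheafData.ext_of_isAffine (X := (O : Scheme.{u})) ?_
  show (J.comap j.left).ideal ⟨⊤, _⟩ = (J₁.comap j.left).ideal ⟨⊤, _⟩ * (J₂.comap j.left).ideal ⟨⊤, _⟩
  rw [← idealOfRep_eq hi (openChart hπ O) hO (hJ.comap j), ← idealOfRep_eq hi₁ (openChart hπ O) hO (hJ₁.comap j),
    ← idealOfRep_eq hi₂ (openChart hπ O) hO (hJ₂.comap j), e, e₁, e₂]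
  rfl

theorem exists_affine_nhd {U : Over S} (u : ↥U.left) : ∃ O : U.left.Opens, IsAffineOpen O ∧ u ∈ O := by
  obtain ⟨O, hO, hu, -⟩ := exists_isAffineOpen_mem_and_subset (TopologicalSpace.Opens.mem_top u)
  exact ⟨O, hO, hu⟩

theorem effCartierSub_mul {Z₁ Z₂ D : Sp S} {i₁ : Z₁ ⟶ X} {i₂ : Z₂ ⟶ X} {i : D ⟶ X} (hX : IsAlgSpace X)
    {I₁ I₂ : IdealEt X} (h₁ : IsCutOutBy I₁ i₁) (h₂ : IsCutOutBy I₂ i₂) (hD : IsCutOutBy (I₁ * I₂) i)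
    (c₁ : IsEffCartierSub i₁) (c₂ : IsEffCartierSub i₂) : IsEffCartierSub i := by
  obtain ⟨U, π, hπ, hπs⟩ := hX.atlas
  obtain ⟨J₁, hJ₁⟩ := exists_pullIdeal h₁.1 π
  obtain ⟨J₂, hJ₂⟩ := exists_pullIdeal h₂.1 π
  obtain ⟨J, hJ⟩ := exists_pullIdeal hD.1 π
  obtain ⟨fst, sq⟩ := exists_std_square hD.1 hJ
  refine ⟨hD.1, U, π, J, fst, hπ, hπs, sq, cartier_of_opens fun u => ?_⟩
  obtain ⟨O, hO, hu⟩ := exists_affine_nhd u
  refine ⟨O, hu, ?_⟩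
  rw [comap_eq_mul_of_isCutOutBy h₁ h₂ hD hπ hJ₁ hJ₂ hJ O hO]
  exact cartier_mul (cartier_comap_flat (cartier_of_effCartierSub hX c₁ hπ hJ₁) _)
    (cartier_comap_flat (cartier_of_effCartierSub hX c₂ hπ hJ₂) _)

theorem effCartierSub_of_mul {Z₁ Z₂ D : Sp S} {i₁ : Z₁ ⟶ X} {i₂ : Z₂ ⟶ X} {i : D ⟶ X} (hX : IsAlgSpace X)
    {I₁ I₂ : IdealEt X} (h₁ : IsCutOutBy I₁ i₁) (h₂ : IsCutOutBy I₂ i₂) (hD : IsCutOutBy (I₁ * I₂) i)
    (c : IsEffCartierSub i) : IsEffCartierSub i₁ ∧ IsEffCartierSub i₂ := by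
  obtain ⟨U, π, hπ, hπs⟩ := hX.atlas
  obtain ⟨J₁, hJ₁⟩ := exists_pullIdeal h₁.1 π
  obtain ⟨J₂, hJ₂⟩ := exists_pullIdeal h₂.1 π
  obtain ⟨J, hJ⟩ := exists_pullIdeal hD.1 π
  obtain ⟨fst₁, sq₁⟩ := exists_std_square h₁.1 hJ₁
  obtain ⟨fst₂, sq₂⟩ := exists_std_square h₂.1 hJ₂
  have key : ∀ O : U.left.Opens, IsAffineOpen O →
      BlowUp.IsEffCartierIdeal (J₁.comap O.ι * J₂.comap O.ι) := fun O hO => by
    rw [← comap_eq_mul_of_isCutOutBy h₁ h₂ hD hπ hJ₁ hJ₂ hJ O hO]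
    exact cartier_comap_flat (cartier_of_effCartierSub hX c hπ hJ) _
  refine ⟨⟨h₁.1, U, π, J₁, fst₁, hπ, hπs, sq₁, cartier_of_opens fun u => ?_⟩,
    ⟨h₂.1, U, π, J₂, fst₂, hπ, hπs, sq₂, cartier_of_opens fun u => ?_⟩⟩
  · obtain ⟨O, hO, hu⟩ := exists_affine_nhd u
    exact ⟨O, hu, cartier_of_mul_left (key O hO)⟩
  · obtain ⟨O, hO, hu⟩ := exists_affine_nhd u
    exact ⟨O, hu, cartier_of_mul_right (key O hO)⟩

end Groth.Agent.SchImg
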