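import Mathlib.AlgebraicGeometry.IdealSheaf.Functorial
import Mathlib.AlgebraicGeometry.Morphisms.SchemeTheoreticallyDominant
import Mathlib.AlgebraicGeometry.Morphisms.ClosedImmersion
import Mathlib.AlgebraicGeometry.Morphisms.FlatDescent
import Mathlib.RingTheory.Flat.FaithfullyFlat.Algebra

/-!
# Kernels of morphisms as ideal sheaves: vanishing, flat base change, descent of the order
-/

set_option autoImplicit false

universe u

open CategoryTheory CategoryTheory.Limits AlgebraicGeometry

set_option backward.isDefEq.respectTransparency false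

namespace Groth.Agent.SchImg

variable {T U V : Scheme.{u}}

theorem comap_eq_bot_iff (I : U.IdealSheafData) (g : T ⟶ U) : I.comap g = ⊥ ↔ I ≤ g.ker := by
  rw [← le_bot_iff, ← Scheme.IdealSheafData.le_map_iff_comap_le, Scheme.IdealSheafData.map_bot]

theorem exists_lift_iff (I : U.IdealSheafData) (g : T ⟶ U) :
    (∃ l : T ⟶ I.subscheme, l ≫ I.subschemeι = g) ↔ I.comap g = ⊥ := by
  rw [comap_eq_bot_iff]
  refine ⟨fun ⟨l, hl⟩ => ?_, fun h => ?_⟩
  · rw [← hl]
    calc I = I.subschemeι.ker := I.ker_subschemeι.symm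
      _ ≤ _ := Scheme.Hom.le_ker_comp l I.subschemeι
  · exact ⟨IsClosedImmersion.lift I.subschemeι g (by rw [I.ker_subschemeι]; exact h),
      IsClosedImmersion.lift_fac _ _ _⟩

theorem comap_subschemeι_eq_bot_iff (I J : U.IdealSheafData) : I.comap J.subschemeι = ⊥ ↔ I ≤ J := by
  rw [comap_eq_bot_iff, J.ker_subschemeι]

theorem comap_sSup (s : Set V.IdealSheafData) (f : U ⟶ V) :
    (sSup s).comap f = ⨆ I ∈ s, I.comap f :=
  (Scheme.IdealSheafData.map_gc f).l_sSup

theorem ker_eq_bot_of_flat_surjective (c : T ⟶ U) [Flat c] [Surjective c] : c.ker = ⊥ := by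
  refine le_bot_iff.1 fun O => ?_
  intro s hs
  have h0 : c.app O.1 s = 0 := RingHom.mem_ker.1 (c.ideal_ker_le O hs)
  simp only [Scheme.IdealSheafData.ideal_bot, Pi.bot_apply, Ideal.mem_bot]
  refine TopCat.Presheaf.section_ext U.sheaf O.1 s 0 fun u hu => ?_
  obtain ⟨t, rfl⟩ := c.surjective u
  have hinj : Function.Injective (c.stalkMap t).hom := by
    algebraize [(c.stalkMap t).hom]
    have : Module.Flat (U.presheaf.stalk (c t)) (T.presheaf.stalk t) := (Flat.iff_flat_stalkMap c).1 ‹_› t
    have : IsLocalHom (algebraMap (U.presheaf.stalk (c t)) (T.presheaf.stalk t)) :=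
      inferInstanceAs (IsLocalHom (c.stalkMap t).hom)
    have : Module.FaithfullyFlat (U.presheaf.stalk (c t)) (T.presheaf.stalk t) :=
      Module.FaithfullyFlat.of_flat_of_isLocalHom
    exact FaithfulSMul.algebraMap_injective _ _
  apply hinj
  show (c.stalkMap t) ((U.presheaf.germ O.1 (c t) hu) s) = (c.stalkMap t) ((U.presheaf.germ O.1 (c t) hu) 0)
  rw [map_zero, map_zero, Scheme.Hom.germ_stalkMap_apply, h0, map_zero]

theorem ker_comp_flat_surjective {W : Scheme.{u}} (c : T ⟶ U) (g : U ⟶ W) [Flat c] [Surjective c] :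
    (c ≫ g).ker = g.ker := by
  rw [Scheme.Hom.ker_comp, ker_eq_bot_of_flat_surjective c, Scheme.IdealSheafData.map_bot]

theorem map_comap_flat_surjective (J : V.IdealSheafData) (e : U ⟶ V) [Flat e] [Surjective e] :
    (J.comap e).map e = J := by
  show ((J.comap e).subschemeι ≫ e).ker = J
  rw [← Scheme.IdealSheafData.comapIso_hom_fst, Category.assoc, Scheme.Hom.ker_comp_of_isIso,
    pullback.condition, ker_comp_flat_surjective, J.ker_subschemeι]

theorem le_of_comap_le {I J : V.IdealSheafData} (e : U ⟶ V) [Flat e] [Surjective e]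
    (h : I.comap e ≤ J.comap e) : I ≤ J := by
  rw [← map_comap_flat_surjective J e]
  exact Scheme.IdealSheafData.le_map_iff_comap_le.2 h

theorem eq_of_comap_eq {I J : V.IdealSheafData} (e : U ⟶ V) [Flat e] [Surjective e]
    (h : I.comap e = J.comap e) : I = J :=
  le_antisymm (le_of_comap_le e h.le) (le_of_comap_le e h.ge)

theorem isSchemeTheoreticallyDominant_toImage (f : U ⟶ V) : IsSchemeTheoreticallyDominant f.toImage := by
  refine ⟨?_⟩
  have h : (f.toImage.ker.subschemeι ≫ f.imageι).ker = f.imageι.ker := by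
    show f.toImage.ker.map f.imageι = f.imageι.ker
    rw [Scheme.IdealSheafData.map_ker, Scheme.Hom.toImage_imageι]
    exact f.ker.ker_subschemeι.symm
  have : IsIso f.toImage.ker.subschemeι :=
    IsClosedImmersion.isIso_of_ker_eq (f.toImage.ker.subschemeι ≫ f.imageι) f.imageι _ rfl h
  rw [← f.toImage.ker.ker_subschemeι]
  exact Scheme.Hom.ker_eq_bot_of_isIso _

/-- kernels commute with flat base change for quasi-compact morphisms -/
theorem ker_baseChange {W W' : Scheme.{u}} {fst : W' ⟶ W} {g' : W' ⟶ U} {g : W ⟶ V} {β : U ⟶ V}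
    (sq : IsPullback fst g' g β) [QuasiCompact g] [Flat β] : g'.ker = g.ker.comap β := by
  have := isSchemeTheoreticallyDominant_toImage g
  let t : W' ⟶ pullback β g.imageι := pullback.lift g' (fst ≫ g.toImage) (by
    rw [Category.assoc, Scheme.Hom.toImage_imageι]; exact sq.w.symm)
  have h2 : IsPullback fst t g.toImage (pullback.snd β g.imageι) := by
    refine IsPullback.of_bot ?_ (pullback.lift_snd _ _ _).symm (IsPullback.of_hasPullback β g.imageι).flip
    rw [pullback.lift_fst, Scheme.Hom.toImage_imageι]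
    exact sq
  have : IsSchemeTheoreticallyDominant t := IsSchemeTheoreticallyDominant.of_isPullback h2
  have e : g' = t ≫ pullback.fst β g.imageι := (pullback.lift_fst _ _ _).symm
  rw [e, Scheme.Hom.ker_comp, t.ker_eq_bot, Scheme.IdealSheafData.map_bot]
  rfl

end Groth.Agent.SchImg
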