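import Groth.Agent.SchImg.Range
import Groth.Agent.SpQS.RedInduced
import Groth.Agent.AlgSpLib.Reduced
import Groth.Agent.AlgSpLib.LocPMore
import Groth.Agent.RedSepLib.Basic
import Groth.Agent.AlgSpLib.ProperRange

/-!
# Scheme theoretic images of reduced spaces
-/

set_option autoImplicit false

universe u

open CategoryTheory CategoryTheory.Limits AlgebraicGeometry

set_option backward.isDefEq.respectTransparency false

namespace Groth.Agent.SchImg

open _root_.AlgSp Groth.Agent.AlgSpLib

variable {S : Scheme.{u}} {X Y Z : Sp S}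

theorem isClosed_range_of_closed {i : Z ⟶ Y} (hi : RepWith @IsClosedImmersion i) :
    IsClosed (Set.range (Points.map i)) := by
  rw [← isOpen_compl_iff, Points.isOpen_iff]
  intro T g
  obtain ⟨I, hI⟩ := exists_pullIdeal hi g
  have : Points.ofPt g ⁻¹' (Set.range (Points.map i))ᶜ = (I.support : Set T.left)ᶜ := by
    ext t
    exact not_congr (hI.mem_range_iff t)
  rw [this]
  exact I.support.isClosed.isOpen_compl

theorem isReduced_of_reducedSp (hX : IsAlgSpace X) (h : IsReducedSp X) {W : Over S} {a : (yon S).obj W ⟶ X}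
    (ha : RepWith @Etale a) : IsReduced W.left := by
  obtain ⟨U', b, hb, hbs, hU'⟩ := h
  obtain ⟨W', p, q, sq⟩ := exists_pullback hX.diag a b
  have : Etale p.left := (repWith_yon_iff p).1 (repWith_baseChange sq.flip hb)
  have : Surjective p.left := (repWith_yon_iff p).1 (repWith_baseChange sq.flip hbs)
  have : Etale q.left := (repWith_yon_iff q).1 (repWith_baseChange sq ha)
  have : IsReduced U'.left := hU'
  have := isReduced_of_smooth q.left
  have : ∀ w : ↥W.left, _root_.IsReduced (W.left.presheaf.stalk w) := fun w => by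
    obtain ⟨w', rfl⟩ := p.left.surjective w
    exact (isReduced_stalk_iff_of_smooth p.left w').1 inferInstance
  exact isReduced_of_isReduced_stalk W.left

theorem isReducedSp_of_etale {X' : Sp S} (hX' : IsAlgSpace X') (hX : IsAlgSpace X) {e : X' ⟶ X}
    (he : IsEtaleMor e) (h : IsReducedSp X) : IsReducedSp X' := by
  obtain ⟨W, a, ha, has⟩ := hX'.atlas
  exact ⟨W, a, ha, has, isReduced_of_reducedSp hX h (he a ha)⟩

/-- a reduced source lands in every closed subspace containing its points -/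
theorem exists_factor_of_reduced {i : Z ⟶ Y} (hi : RepWith @IsClosedImmersion i) (hX : IsAlgSpace X)
    (hY : IsAlgSpace Y) (hred : IsReducedSp X) {f : X ⟶ Y}
    (h : Set.range (Points.map f) ⊆ Set.range (Points.map i)) : ∃ f' : X ⟶ Z, f' ≫ i = f := by
  obtain ⟨U, π, hπ, hπs⟩ := hY.atlas
  obtain ⟨I, hI⟩ := exists_pullIdeal hi π
  have sq := IsPullback.of_hasPullback f π
  have hP : IsAlgSpace (pullback f π) := isAlgSpace_of_isPullback_space hY hX (IsAlgSpace.yon_obj U) sq
  obtain ⟨W, c, hce, hcs⟩ := hP.atlas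
  obtain ⟨g, hg⟩ := exists_map_eq (c ≫ pullback.snd f π)
  have : IsReduced W.left := isReduced_of_reducedSp hX hred (repWith_comp hce (repWith_baseChange sq.flip hπ))
  refine exists_factor_of_le hi hX hY hπ hπs hI ?_
  rw [kerIdeal_eq_ker hP sq hce hcs hg, ← comap_eq_bot_iff, ← exists_lift_iff]
  refine RedSepLib.exists_lift_of_isReduced g.left I.subschemeι ?_
  rw [I.range_subschemeι]
  rintro _ ⟨w, rfl⟩
  refine (hI.mem_range_iff _).1 (h ⟨Points.ofPt (c ≫ pullback.fst f π) w, ?_⟩)
  rw [Points.map_ofPt, Category.assoc, pullback.condition, ← ofPt_comp, hg, Category.assoc]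

/-- the reduced structure on the closure of the image is the image -/
theorem isSchImage_of_redInduced (hX : IsAlgSpace X) (hY : IsAlgSpace Y) (hred : IsReducedSp X) {f : X ⟶ Y}
    {i : Z ⟶ Y} (h : IsRedInduced (closure (Set.range (Points.map f))) i) : IsSchImage f i := by
  refine ⟨h.1, exists_factor_of_reduced h.1 hX hY hred (h.2.1 ▸ subset_closure), fun Z' i' hZ' hi' ⟨f'', hf''⟩ => ?_⟩
  refine exists_factor_of_reduced hi' (isAlgSpace_of_closed hY h.1) hY h.2.2 ?_
  rw [h.2.1]
  refine closure_minimal ?_ (isClosed_range_of_closed hi')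
  rintro _ ⟨x, rfl⟩
  exact ⟨Points.map f'' x, by rw [← Points.map_comp, hf'']⟩

theorem isRedInduced_of_schImage (hX : IsAlgSpace X) (hY : IsAlgSpace Y) (hred : IsReducedSp X) {f : X ⟶ Y}
    {i : Z ⟶ Y} (h : IsSchImage f i) : IsRedInduced (closure (Set.range (Points.map f))) i := by
  obtain ⟨Z₁, i₁, hZ₁, h₁⟩ := SpQS.exists_redInduced hY (isClosed_closure (s := Set.range (Points.map f)))
  have h₁' := isSchImage_of_redInduced hX hY hred h₁
  have := mono_of_closed h.1
  have := mono_of_closed h₁.1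
  obtain ⟨k, hk⟩ := h.2.2 i₁ hZ₁ h₁.1 h₁'.2.1
  obtain ⟨k', hk'⟩ := h₁'.2.2 i (isAlgSpace_of_closed hY h.1) h.1 h.2.1
  have : IsIso k' := ⟨k, by rw [← cancel_mono i₁, Category.assoc, hk, hk', Category.id_comp],
    by rw [← cancel_mono i, Category.assoc, hk', hk, Category.id_comp]⟩
  refine ⟨h.1, ?_, ?_⟩
  · rw [← h₁.2.1, ← hk']
    ext x
    constructor
    · rintro ⟨z, rfl⟩
      exact ⟨Points.map (inv k') z, by rw [← Points.map_comp, IsIso.inv_hom_id_assoc]⟩
    · rintro ⟨z, rfl⟩
      exact ⟨Points.map k' z, by rw [← Points.map_comp]⟩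
  · obtain ⟨U', b, hb, hbs, hU'⟩ := h₁.2.2
    exact ⟨U', b ≫ k', repWith_comp hb (repWith_of_isIso _), repWith_comp hbs (repWith_of_isIso _), hU'⟩

theorem isOpenMap_of_etale (hX : IsAlgSpace X) (hY : IsAlgSpace Y) {b : X ⟶ Y} (hb : IsEtaleMor b) :
    IsOpenMap (Points.map b) := by
  have h := (isEtaleMor_iff_locP hY).1 hb
  refine isOpenMap_map_of_flat_lfp hX hY b (fun U V a c k ha hc e => ?_) (fun U V a c k ha hc e => ?_) <;>
  · have : Etale k.left := h a c k ha hc e
    infer_instance

/-- etale base change of the reduced induced structure on the closure of the image -/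
theorem isSchImage_baseChange_of_reduced {V XV ZV : Sp S} (hX : IsAlgSpace X) (hY : IsAlgSpace Y)
    (hV : IsAlgSpace V) (hred : IsReducedSp X) {f : X ⟶ Y} {i : Z ⟶ Y} (h : IsSchImage f i) {b : V ⟶ Y}
    (hb : IsEtaleMor b) {f₁ : XV ⟶ X} {fV : XV ⟶ V} {i₁ : ZV ⟶ Z} {iV : ZV ⟶ V}
    (sqX : IsPullback f₁ fV f b) (sqZ : IsPullback i₁ iV i b) : IsSchImage fV iV := by
  have hZ := isRedInduced_of_schImage hX hY hred h
  have hXV : IsAlgSpace XV := isAlgSpace_of_isPullback_space hY hX hV sqX
  have hiV : RepWith @IsClosedImmersion iV := repWith_baseChange sqZ hZ.1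
  refine isSchImage_of_redInduced hXV hV
    (isReducedSp_of_etale hXV hX ((isEtaleMor_iff_locP hX).2 (locP_baseChange etST_etale hV hY hXV hX sqX.flip ((isEtaleMor_iff_locP hY).1 hb))) hred) ⟨hiV, ?_,
      isReducedSp_of_etale (isAlgSpace_of_closed hV hiV) (isAlgSpace_of_closed hY hZ.1)
        ((isEtaleMor_iff_locP (isAlgSpace_of_closed hY hZ.1)).2 (locP_baseChange etST_etale hV hY (isAlgSpace_of_closed hV hiV) (isAlgSpace_of_closed hY hZ.1) sqZ.flip ((isEtaleMor_iff_locP hY).1 hb))) hZ.2.2⟩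
  rw [range_map_of_isPullback sqZ, hZ.2.1, range_map_of_isPullback sqX]
  exact (isOpenMap_of_etale hV hY hb).preimage_closure_eq_closure_preimage (Points.continuous_map b) _

end Groth.Agent.SchImg
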