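import Groth.Agent.SchImg.Dense
import Groth.Agent.SchImg.Reduced

/-!
# An immersion is open and dense in its scheme theoretic image
-/

set_option autoImplicit false

universe u

open CategoryTheory CategoryTheory.Limits AlgebraicGeometry

set_option backward.isDefEq.respectTransparency false

namespace Groth.Agent.SchImg

open _root_.AlgSp Groth.Agent.AlgSpLib

variable {S : Scheme.{u}} {X Y Z : Sp S}

theorem mem_range_iff_of_isPullback {f : X ⟶ Y} {V W : Over S} {φ : (yon S).obj V ⟶ Y}
    {fst : (yon S).obj W ⟶ X} {g : W ⟶ V} (sq : IsPullback fst ((yon S).map g) f φ) (v : ↥V.left) :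
    v ∈ Set.range g.left ↔ Points.ofPt φ v ∈ Set.range (Points.map f) := by
  refine ⟨fun ⟨w, hw⟩ => ⟨Points.ofPt fst w, by rw [Points.map_ofPt, sq.w, ofPt_comp, hw]⟩, fun ⟨x, hx⟩ => ?_⟩
  obtain ⟨T, a, t, rfl⟩ := exists_ofPt x
  rw [Points.map_ofPt] at hx
  obtain ⟨K, α, β, k, e, -, rfl⟩ := exists_of_ofPt_eq hx
  obtain ⟨m, hm⟩ := exists_map_eq (sq.lift ((yon S).map α ≫ a) ((yon S).map β) (by rw [Category.assoc]; exact e))
  have : m ≫ g = β := (yon S).map_injective (by rw [Functor.map_comp, hm, sq.lift_snd])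
  exact ⟨m.left k, by rw [← this]; rfl⟩

theorem isPullIdeal_ker_of_isPullback {i : Z ⟶ Y} {U W : Over S} {φ : (yon S).obj U ⟶ Y}
    {z : (yon S).obj W ⟶ Z} {v : W ⟶ U} (sq : IsPullback z ((yon S).map v) i φ) [IsClosedImmersion v.left] :
    IsPullIdeal i φ v.left.ker := fun T α => by
  refine ⟨fun ⟨l, hl⟩ => ?_, fun h => ?_⟩
  · obtain ⟨m, hm⟩ := exists_map_eq (sq.lift l ((yon S).map α) hl)
    have hmv : m ≫ v = α := (yon S).map_injective (by rw [Functor.map_comp, hm, sq.lift_snd])
    rw [comap_eq_bot_iff, ← show m.left ≫ v.left = α.left from congrArg (fun q => q.left) hmv]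
    exact Scheme.Hom.le_ker_comp _ _
  · rw [comap_eq_bot_iff] at h
    let m : T ⟶ W := Over.homMk (IsClosedImmersion.lift v.left α.left h) (by
      rw [← Over.w v, IsClosedImmersion.lift_fac_assoc, Over.w α])
    exact ⟨(yon S).map m ≫ z, by
      rw [Category.assoc, sq.w, ← Functor.map_comp_assoc,
        show m ≫ v = α from Over.OverMorphism.ext (IsClosedImmersion.lift_fac _ _ _)]⟩

theorem isOpenImmersion_of_ker_eq {W V U : Scheme.{u}} (v : W ⟶ U) [IsImmersion v] [QuasiCompact v]
    (j : V ⟶ U) [IsClosedImmersion j] (v' : W ⟶ V) (e : v' ≫ j = v) (h : j.ker = v.ker) :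
    IsOpenImmersion v' := by
  have hk : v.imageι.ker = j.ker := (Scheme.IdealSheafData.ker_subschemeι _).trans h.symm
  let a := IsClosedImmersion.lift j v.imageι hk.ge
  let b := IsClosedImmersion.lift v.imageι j hk.le
  have ha : a ≫ j = v.imageι := IsClosedImmersion.lift_fac _ _ _
  have hb : b ≫ v.imageι = j := IsClosedImmersion.lift_fac _ _ _
  have : IsIso a := ⟨b, by rw [← cancel_mono v.imageι, Category.assoc, hb, ha, Category.id_comp],
    by rw [← cancel_mono j, Category.assoc, ha, hb, Category.id_comp]⟩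
  rw [show v' = v.toImage ≫ a by rw [← cancel_mono j, Category.assoc, ha, Scheme.Hom.toImage_imageι, e]]
  infer_instance

theorem isOpenImmersion_of_reduced {W V U : Scheme.{u}} [IsReduced W] [IsReduced V] (v : W ⟶ U) [IsImmersion v]
    (j : V ⟶ U) [IsClosedImmersion j] (v' : W ⟶ V) (e : v' ≫ j = v)
    (h : Set.range j ⊆ closure (Set.range v)) : IsOpenImmersion v' := by
  have hlift : v.liftCoborder ≫ v.coborderRange.ι = v := Scheme.Hom.liftCoborder_ι v
  have : IsReduced (pullback j v.coborderRange.ι) := isReduced_of_isOpenImmersion (pullback.fst j v.coborderRange.ι)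
  obtain ⟨k, hk⟩ := RedSepLib.exists_lift_of_isReduced (pullback.snd j v.coborderRange.ι) v.liftCoborder (by
    rintro _ ⟨c, rfl⟩
    have h1 : v.coborderRange.ι (pullback.snd j v.coborderRange.ι c) ∈ closure (Set.range v) := h
      ⟨pullback.fst j v.coborderRange.ι c, by rw [← Scheme.Hom.comp_apply, pullback.condition]; rfl⟩
    obtain ⟨w, hw⟩ := (coborder_inter_closure (s := Set.range v)).le ⟨(pullback.snd j v.coborderRange.ι c).2, h1⟩
    refine ⟨w, v.coborderRange.ι.injective ?_⟩
    rw [← Scheme.Hom.comp_apply, hlift, hw]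
    rfl)
  let l : W ⟶ pullback j v.coborderRange.ι := pullback.lift v' v.liftCoborder (e.trans hlift.symm)
  have : Mono v.liftCoborder := inferInstance
  have : Mono (pullback.snd j v.coborderRange.ι) := inferInstance
  have : IsIso l := ⟨k, by rw [← cancel_mono v.liftCoborder, Category.assoc, hk, pullback.lift_snd, Category.id_comp],
    by rw [← cancel_mono (pullback.snd j v.coborderRange.ι), Category.assoc, pullback.lift_snd, hk, Category.id_comp]⟩
  rw [show v' = l ≫ pullback.fst j v.coborderRange.ι from (pullback.lift_fst _ _ _).symm]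
  infer_instance

theorem schDense_of_dense_of_reduced {V : Scheme.{u}} [IsReduced V] {W : V.Opens} (h : Dense (W : Set V)) :
    CInt.IsSchematicallyDense W := fun O => by
  refine (injective_iff_map_eq_zero _).2 fun s hs => ?_
  by_contra hne
  have hne' : V.basicOpen s ≠ ⊥ := fun h0 => hne ((basicOpen_eq_bot_iff _).1 h0)
  obtain ⟨x, hx⟩ := (SetLike.coe_ne_coe.2 hne' |> Set.nonempty_iff_ne_empty.2)
  obtain ⟨y, hy1, hy2⟩ := h.inter_open_nonempty _ (V.basicOpen s).2 ⟨x, hx⟩
  have hy : y ∈ V.basicOpen (V.presheaf.map (homOfLE (inf_le_left : O ⊓ W ≤ O)).op s) := by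
    rw [Scheme.basicOpen_res]
    exact ⟨⟨V.basicOpen_le s hy1, hy2⟩, hy1⟩
  rw [hs, Scheme.basicOpen_zero] at hy
  exact hy

theorem schImage_id_of_schImage {Zb : Sp S} {h : Z ⟶ X} {c : Zb ⟶ X} (hX : IsAlgSpace X) (hc : IsSchImage h c)
    {h' : Z ⟶ Zb} (fac : h' ≫ c = h) : IsSchImage h' (𝟙 Zb) := by
  refine ⟨Bootstrap.repWith_id _, ⟨h', Category.comp_id _⟩, fun Z' i' hZ' hi' ⟨f'', hf''⟩ => ?_⟩
  obtain ⟨k, hk⟩ := hc.2.2 (i' ≫ c) hZ' (repWith_comp hi' hc.1) ⟨f'', by rw [reassoc_of% hf'', fac]⟩
  have := mono_of_closed hc.1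
  exact ⟨k, by rw [← cancel_mono c, Category.assoc, hk, Category.id_comp]⟩

/-- an immersion is open in its image -/
theorem openImmersion_toImage {Zb : Sp S} {h : Z ⟶ X} {c : Zb ⟶ X} (hZ : IsAlgSpace Z) (hX : IsAlgSpace X)
    (hh : RepWith @IsImmersion h) (hq : IsQuasiCompactMor h ∨ IsReducedSp Z) (hc : IsSchImage h c)
    {h' : Z ⟶ Zb} (fac : h' ≫ c = h) : RepWith @IsOpenImmersion h' := by
  obtain ⟨U, π, hπ, hπs⟩ := hX.atlas
  obtain ⟨B, q, jI, sqc, hjI⟩ := exists_repWith hc.1 π
  obtain ⟨W, fst, v, sqh, hv⟩ := exists_repWith hh π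
  have : IsClosedImmersion jI.left := hjI
  have : IsImmersion v.left := hv
  obtain ⟨v', hv'⟩ := exists_map_eq (sqc.lift (fst ≫ h') ((yon S).map v) (by rw [Category.assoc, fac, sqh.w]))
  have e : v' ≫ jI = v := (yon S).map_injective (by rw [Functor.map_comp, hv', sqc.lift_snd])
  have e' : v'.left ≫ jI.left = v.left := congrArg (fun m => m.left) e
  have sq' : IsPullback fst ((yon S).map v') h' q :=
    IsPullback.of_bot (by rw [fac, ← Functor.map_comp, e]; exact sqh) (by rw [hv', sqc.lift_fst]) sqc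
  have hZb := isAlgSpace_of_closed hX hc.1
  have hqe : RepWith @Etale q := repWith_baseChange sqc.flip hπ
  have hqs : RepWith @Surjective q := repWith_baseChange sqc.flip hπs
  have hv'o : IsOpenImmersion v'.left := by
    rcases hq with hqc | hred
    · have hker : jI.left.ker = v.left.ker := ((pullIdeal_eq_kerIdeal_atlas hZ hX hqc hc hπ hπs).unique
        (isPullIdeal_ker_of_isPullback sqc)).symm.trans (kerIdeal_eq_ker_of_yon sqh)
      have : QuasiCompact v.left := ((isQuasiCompactMor_iff_repWith hZ hX hh.1).1 hqc).2 π fst v sqh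
      exact isOpenImmersion_of_ker_eq v.left jI.left v'.left e' hker
    · have hR := isRedInduced_of_schImage hZ hX hred hc
      have : IsReduced W.left := isReduced_of_reducedSp hZ hred (repWith_baseChange sqh.flip hπ)
      have : IsReduced B.left := isReduced_of_reducedSp hZb hR.2.2 hqe
      refine isOpenImmersion_of_reduced v.left jI.left v'.left e' fun u hu => ?_
      have h1 := (mem_range_iff_of_isPullback sqc u).1 hu
      rw [hR.2.1] at h1
      have h2 := (isOpenMap_ofPt (repWith_universallyOpen_of_etale hπ)).preimage_closure_subset_closure_preimage (s := Set.range (Points.map h)) h1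
      exact closure_mono (fun w hw => (mem_range_iff_of_isPullback sqh w).2 hw) h2
  have hcov : IsFppfCover (fun _ : PUnit.{u + 1} => (yon S).obj B) (fun _ => q) :=
    ⟨fun _ => ⟨(locP_iff_repWith etST_flat hZb hqe.1).2 (repWith_mono (fun _ _ r hr => by
        have : Etale r := hr
        infer_instance) hqe),
      (locP_iff_repWith etST_lfp hZb hqe.1).2 (repWith_mono (fun _ _ r hr => by
        have : Etale r := hr
        infer_instance) hqe)⟩, fun x => ⟨PUnit.unit, isSurjectiveMor_of_repWith hqs x⟩⟩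
  exact repWith_of_fppfCover @IsOpenImmersion
    (fun _ _ r hr => by
      have : IsOpenImmersion r := hr
      exact QA.IndQA.of_isImmersion r) hZb (fun _ => IsAlgSpace.yon_obj B) hcov h' (fun _ => (yon S).obj W)
    (fun _ => (yon S).map v') (fun _ => fst) (fun _ => sq') (fun _ => (repWith_yon_iff v').2 hv'o)

theorem schDense_dense_toImage {Zb : Sp S} {h : Z ⟶ X} {c : Zb ⟶ X} (hZ : IsAlgSpace Z) (hX : IsAlgSpace X)
    (hh : RepWith @IsImmersion h) (hq : IsQuasiCompactMor h ∨ IsReducedSp Z) (hc : IsSchImage h c)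
    {h' : Z ⟶ Zb} (fac : h' ≫ c = h) :
    RepWith @IsOpenImmersion h' ∧ IsSchDense h' ∧ Dense (Set.range (Points.map h')) := by
  have hj := openImmersion_toImage hZ hX hh hq hc fac
  have hZb := isAlgSpace_of_closed hX hc.1
  have hid := schImage_id_of_schImage hX hc fac
  have := mono_of_closed hc.1
  have hr : Set.range (Points.map (𝟙 Zb)) = Set.univ := Set.eq_univ_of_forall fun z => ⟨z, Points.map_id z⟩
  rcases hq with hqc | hred
  · have hqc' : IsQuasiCompactMor h' :=
      isQuasiCompactMor_baseChange (IsPullback.of_horiz_isIso_mono (fst := 𝟙 Z) (g := c) ⟨by rw [fac, Category.id_comp]⟩) hqc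
    refine ⟨hj, (schDense_iff_schImage hZ hZb hj hqc').2 hid, fun z => ?_⟩
    exact range_subset_closure hZ hZb hqc' hid (hr.ge (Set.mem_univ z))
  · have hR := isRedInduced_of_schImage hZ hZb hred hid
    have hd : Dense (Set.range (Points.map h')) := fun z => hR.2.1.le (hr.ge (Set.mem_univ z))
    obtain ⟨B, q, hqe, hqs⟩ := hZb.atlas
    obtain ⟨W, fst, sq⟩ := exists_open_pullback hj q
    have : IsReduced B.left := isReduced_of_reducedSp hZb hR.2.2 hqe
    refine ⟨hj, ⟨hj, B, q, W, fst, hqe, hqs, sq, schDense_of_dense_of_reduced ?_⟩, hd⟩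
    rw [show (W : Set B.left) = Points.ofPt q ⁻¹' Set.range (Points.map h') from Set.ext (mem_open_iff sq)]
    exact hd.preimage (isOpenMap_ofPt (repWith_universallyOpen_of_etale hqe))

end Groth.Agent.SchImg
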