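import Groth.Agent.SchImg.CartierDescent
import Groth.Agent.SchImg.Dense
import Groth.Agent.SchImg.ImmImage
import Groth.Agent.AlgSpLib.EffCartierBC

/-!
# Effective Cartier divisors on all etale charts
-/

set_option autoImplicit false

universe u

open CategoryTheory CategoryTheory.Limits AlgebraicGeometry

set_option backward.isDefEq.respectTransparency false

namespace Groth.Agent.SchImg

open _root_.AlgSp Groth.Agent.AlgSpLib Groth.Agent.BlowUpLib

variable {S : Scheme.{u}} {X D : Sp S}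

theorem isPullIdeal_of_std {i : D ⟶ X} {U : Over S} {φ : (yon S).obj U ⟶ X} {I : U.left.IdealSheafData}
    {fst : (yon S).obj (Over.mk (I.subschemeι ≫ U.hom)) ⟶ D}
    (sq : IsPullback fst ((yon S).map (Over.homMk I.subschemeι rfl : Over.mk (I.subschemeι ≫ U.hom) ⟶ U)) i φ) :
    IsPullIdeal i φ I := by
  let v : Over.mk (I.subschemeι ≫ U.hom) ⟶ U := Over.homMk I.subschemeι rfl
  have : IsClosedImmersion v.left := inferInstanceAs (IsClosedImmersion I.subschemeι)
  have h := isPullIdeal_ker_of_isPullback (v := v) sq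
  rwa [show v.left.ker = I from I.ker_subschemeι] at h

theorem exists_std_square {i : D ⟶ X} (hi : RepWith @IsClosedImmersion i) {U : Over S} {φ : (yon S).obj U ⟶ X}
    {I : U.left.IdealSheafData} (hI : IsPullIdeal i φ I) :
    ∃ fst, IsPullback fst ((yon S).map (Over.homMk I.subschemeι rfl : Over.mk (I.subschemeι ≫ U.hom) ⟶ U)) i φ := by
  have := mono_of_closed hi
  let v : Over.mk (I.subschemeι ≫ U.hom) ⟶ U := Over.homMk I.subschemeι rfl
  have : IsClosedImmersion v.left := inferInstanceAs (IsClosedImmersion I.subschemeι)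
  have : Mono v := mono_of_left v
  obtain ⟨l, hl⟩ := (hI v).2 ((comap_subschemeι_eq_bot_iff I I).2 le_rfl)
  refine ⟨l, isPullback_of_points hl fun T a b hab => ?_⟩
  obtain ⟨b, rfl⟩ := exists_map_eq b
  obtain ⟨m, hm⟩ := (exists_lift_iff I b.left).2 ((hI b).1 ⟨a, hab⟩)
  let m' : T ⟶ Over.mk (I.subschemeι ≫ U.hom) := Over.homMk m (by
    show m ≫ I.subschemeι ≫ U.hom = T.hom
    rw [reassoc_of% hm, Over.w b])
  have hm' : m' ≫ v = b := Over.OverMorphism.ext hm
  refine ⟨(yon S).map m', ⟨?_, by rw [← Functor.map_comp, hm']⟩, fun c hc => ?_⟩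
  · rw [← cancel_mono i, Category.assoc, hl, ← Functor.map_comp_assoc, hm', hab]
  · obtain ⟨c, rfl⟩ := exists_map_eq c
    rw [← hm'] at hc
    exact congrArg _ ((cancel_mono v).1 ((yon S).map_injective (by rw [Functor.map_comp, Functor.map_comp]; exact hc.2.trans (Functor.map_comp _ _ _))))

theorem cartier_of_opens {Y : Scheme.{u}} {K : Y.IdealSheafData}
    (h : ∀ y : Y, ∃ O : Y.Opens, y ∈ O ∧ BlowUp.IsEffCartierIdeal (K.comap O.ι)) :
    BlowUp.IsEffCartierIdeal K := by
  intro y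
  obtain ⟨O, hy, hO⟩ := h y
  obtain ⟨U, hzU, f, hf, hK⟩ := hO ⟨y, hy⟩
  refine ⟨⟨O.ι ''ᵁ U.1, U.2.image_of_isOpenImmersion _⟩, ⟨⟨y, hy⟩, hzU, rfl⟩, ?_⟩
  rw [Scheme.IdealSheafData.ideal_comap_of_isOpenImmersion] at hK
  let e := (O.ι.appIso U.1).symm.commRingCatIsoToRingEquiv
  have hb : Function.Bijective (O.ι.appIso U.1).inv.hom := e.bijective
  refine ⟨e f, ?_, ?_⟩
  · rw [mem_nonZeroDivisors_iff_right]
    intro x hx
    obtain ⟨x, rfl⟩ := e.surjective x
    rw [← map_mul, map_eq_zero_iff _ e.injective] at hx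
    rw [(mem_nonZeroDivisors_iff_right.mp hf) x hx, map_zero]
  · refine (Ideal.map_comap_of_surjective _ hb.2 _).symm.trans ?_
    refine (congrArg (Ideal.map (O.ι.appIso U.1).inv.hom) hK).trans ?_
    rw [Ideal.map_span, Set.image_singleton]
    rfl



/-- the pull ideal on every etale chart is Cartier -/
theorem cartier_of_effCartierSub {i : D ⟶ X} (hX : IsAlgSpace X) (h : IsEffCartierSub i) {U : Over S}
    {φ : (yon S).obj U ⟶ X} (hφ : RepWith @Etale φ) {J : U.left.IdealSheafData} (hJ : IsPullIdeal i φ J) :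
    BlowUp.IsEffCartierIdeal J := by
  obtain ⟨-, V, ψ, I, fst, hψ, hψs, sq, hI⟩ := h
  obtain ⟨V₁, e, β, sqV⟩ := exists_pullback hX.diag φ ψ
  have : Etale e.left := (repWith_yon_iff e).1 (repWith_baseChange sqV.flip hψ)
  have : Surjective e.left := (repWith_yon_iff e).1 (repWith_baseChange sqV.flip hψs)
  have : Etale β.left := (repWith_yon_iff β).1 (repWith_baseChange sqV hφ)
  have h2 := (isPullIdeal_of_std sq).comap β
  rw [← sqV.w] at h2
  refine cartier_of_comap e.left e.left.isOpenMap ?_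
  rw [(hJ.comap e).unique h2]
  exact cartier_comap_flat hI β.left

theorem effCartierSub_iff_forall_chart {i : D ⟶ X} (hX : IsAlgSpace X) (hi : RepWith @IsClosedImmersion i) :
    IsEffCartierSub i ↔ ∀ (U : Over S) (φ : (yon S).obj U ⟶ X), RepWith @Etale φ →
      ∀ (I : U.left.IdealSheafData) (fst : (yon S).obj (Over.mk (I.subschemeι ≫ U.hom)) ⟶ D),
        IsPullback fst ((yon S).map (Over.homMk I.subschemeι rfl : Over.mk (I.subschemeι ≫ U.hom) ⟶ U)) i φ →
          BlowUp.IsEffCartierIdeal I := by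
  refine ⟨fun h U φ hφ I fst sq => cartier_of_effCartierSub hX h hφ (isPullIdeal_of_std sq), fun h => ?_⟩
  obtain ⟨U, π, hπ, hπs⟩ := hX.atlas
  obtain ⟨I, hI⟩ := exists_pullIdeal hi π
  obtain ⟨fst, sq⟩ := exists_std_square hi hI
  exact ⟨hi, U, π, I, fst, hπ, hπs, sq, h U π hπ I fst sq⟩

theorem cartier_of_top_generator {U : Scheme.{u}} [IsAffine U] {I : U.IdealSheafData} {f : Γ(U, ⊤)}
    (hf : f ∈ nonZeroDivisors Γ(U, ⊤)) (he : I.ideal ⟨⊤, isAffineOpen_top U⟩ = Ideal.span {f}) :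
    BlowUp.IsEffCartierIdeal I :=
  fun _ => ⟨⟨⊤, isAffineOpen_top U⟩, trivial, f, hf, he⟩

theorem effCartierSub_iff_forall_point {i : D ⟶ X} (hX : IsAlgSpace X) (hi : RepWith @IsClosedImmersion i) :
    IsEffCartierSub i ↔ ∀ x : Points D,
      ∃ (U : Over S) (_ : IsAffine U.left) (a : (yon S).obj U ⟶ X) (u : ↥U.left)
        (f : Γ(U.left, ⊤)) (I : U.left.IdealSheafData)
        (fst : (yon S).obj (Over.mk (I.subschemeι ≫ U.hom)) ⟶ D),
        RepWith @Etale a ∧ Points.ofPt a u = Points.map i x ∧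
          f ∈ nonZeroDivisors Γ(U.left, ⊤) ∧
          I.ideal ⟨⊤, isAffineOpen_top U.left⟩ = Ideal.span {f} ∧
          IsPullback fst ((yon S).map (Over.homMk I.subschemeι rfl : Over.mk (I.subschemeι ≫ U.hom) ⟶ U)) i a := by
  constructor
  · intro h x
    obtain ⟨-, V, φ, I, fst₀, hφ, hφs, sq, hI⟩ := id h
    obtain ⟨v, hv⟩ := ofPt_surjective hφs (Points.map i x)
    obtain ⟨W, hvW, f, hf, he⟩ := hI v
    let U : Over S := Over.mk (W.1.ι ≫ V.hom)
    let j : U ⟶ V := Over.homMk W.1.ι rfl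
    have : IsAffine U.left := W.2
    have hJ := (isPullIdeal_of_std sq).comap j
    obtain ⟨fst, sq'⟩ := exists_std_square hi hJ
    have hle : (⊤ : U.left.Opens) ≤ W.1.ι ⁻¹ᵁ W.1 := fun z _ => z.2
    refine ⟨U, inferInstance, (yon S).map j ≫ φ, ⟨v, hvW⟩, (W.1.ι.appLE W.1 ⊤ hle).hom f, _, fst,
      repWith_comp ((repWith_yon_iff j).2 (inferInstanceAs (Etale W.1.ι))) hφ, ?_,
      mem_nonZeroDivisors_map_of_flat _ (W.1.ι.flat_appLE W.2 (isAffineOpen_top U.left) hle) hf, ?_, sq'⟩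
    · rw [ofPt_comp]; exact hv
    · show (I.comap W.1.ι).ideal ⟨⊤, isAffineOpen_top U.left⟩ = _
      rw [FpqcDescent.ideal_comap_appLE I W.1.ι W ⟨⊤, isAffineOpen_top U.left⟩ hle, he, Ideal.map_span,
        Set.image_singleton]
      rfl
  · intro h
    obtain ⟨V, π, hπ, hπs⟩ := hX.atlas
    obtain ⟨J, hJ⟩ := exists_pullIdeal hi π
    obtain ⟨fst, sq⟩ := exists_std_square hi hJ
    refine ⟨hi, V, π, J, fst, hπ, hπs, sq, cartier_of_opens fun v => ?_⟩
    by_cases hv : v ∈ J.support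
    · obtain ⟨x, hx⟩ := (hJ.mem_range_iff v).2 hv
      obtain ⟨U, _, a, u, f, I, fa, ha, hu, hf, he, sqa⟩ := h x
      obtain ⟨W, e, β, sqW⟩ := exists_pullback hX.diag π a
      have : Etale e.left := (repWith_yon_iff e).1 (repWith_baseChange sqW.flip ha)
      have : Etale β.left := (repWith_yon_iff β).1 (repWith_baseChange sqW hπ)
      obtain ⟨w, hw, -⟩ := (ofPt_eq_iff sqW v u).1 (hx.symm.trans hu.symm)
      let O : V.left.Opens := ⟨Set.range e.left, e.left.isOpenMap.isOpen_range⟩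
      let c : W.left ⟶ O := IsOpenImmersion.lift O.ι e.left (by rw [Scheme.Opens.range_ι]; rfl)
      have hc : c ≫ O.ι = e.left := IsOpenImmersion.lift_fac _ _ _
      have : Etale c := by
        have : Etale (c ≫ O.ι) := by rw [hc]; infer_instance
        exact Etale.of_comp c O.ι
      have : Surjective c := ⟨fun o => by
        obtain ⟨z, hz⟩ : O.ι o ∈ Set.range e.left := o.2
        exact ⟨z, O.ι.injective (by rw [← Scheme.Hom.comp_apply, hc]; exact hz)⟩⟩
      refine ⟨O, ⟨w, hw⟩, cartier_of_comap c c.isOpenMap ?_⟩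
      rw [← Scheme.IdealSheafData.comap_comp, hc]
      have h2 := (isPullIdeal_of_std sqa).comap β
      rw [← sqW.w] at h2
      rw [(hJ.comap e).unique h2]
      exact cartier_comap_flat (cartier_of_top_generator hf he) β.left
    · let O' : V.left.Opens := ⟨(J.support : Set V.left)ᶜ, J.support.isClosed.isOpen_compl⟩
      refine ⟨O', hv, ?_⟩
      rw [comap_eq_top J O'.ι fun (z : O') => z.2]
      exact cartier_top

end Groth.Agent.SchImg
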