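import Groth.Agent.SchImg.Kills
import Groth.Agent.Bootstrap.QuotSp
import Groth.Agent.SpQS.RedInduced

/-!
# Closed subspaces as invariant ideals on a chart; scheme theoretic images
-/

set_option autoImplicit false

universe u

open CategoryTheory CategoryTheory.Limits AlgebraicGeometry

set_option backward.isDefEq.respectTransparency false

namespace Groth.Agent.SchImg

open _root_.AlgSp Groth.Agent.AlgSpLib

variable {S : Scheme.{u}} {X Y Z : Sp S}

/-- `I` is the ideal of the inverse image of `i` on the chart -/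
def IsPullIdeal (i : Z ⟶ Y) {U : Over S} (φ : (yon S).obj U ⟶ Y) (I : U.left.IdealSheafData) : Prop :=
  ∀ ⦃T : Over S⦄ (α : T ⟶ U), (∃ l : (yon S).obj T ⟶ Z, l ≫ i = (yon S).map α ≫ φ) ↔ I.comap α.left = ⊥

theorem IsPullIdeal.le {i : Z ⟶ Y} {U : Over S} {φ : (yon S).obj U ⟶ Y} {I I' : U.left.IdealSheafData}
    (h : IsPullIdeal i φ I) (h' : IsPullIdeal i φ I') : I ≤ I' := by
  let T : Over S := Over.mk (I'.subschemeι ≫ U.hom)
  let α : T ⟶ U := Over.homMk I'.subschemeι rfl
  exact (comap_subschemeι_eq_bot_iff I I').1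
    ((h α).1 ((h' α).2 ((comap_subschemeι_eq_bot_iff I' I').2 le_rfl)))

theorem IsPullIdeal.unique {i : Z ⟶ Y} {U : Over S} {φ : (yon S).obj U ⟶ Y} {I I' : U.left.IdealSheafData}
    (h : IsPullIdeal i φ I) (h' : IsPullIdeal i φ I') : I = I' :=
  le_antisymm (h.le h') (h'.le h)

theorem IsPullIdeal.comap {i : Z ⟶ Y} {U U' : Over S} {φ : (yon S).obj U ⟶ Y} {I : U.left.IdealSheafData}
    (h : IsPullIdeal i φ I) (β : U' ⟶ U) : IsPullIdeal i ((yon S).map β ≫ φ) (I.comap β.left) := fun T α => by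
  rw [← Scheme.IdealSheafData.comap_comp, ← Category.assoc, ← Functor.map_comp]
  exact h (α ≫ β)

theorem exists_pullIdeal {i : Z ⟶ Y} (hi : RepWith @IsClosedImmersion i) {U : Over S} (φ : (yon S).obj U ⟶ Y) :
    ∃ I : U.left.IdealSheafData, IsPullIdeal i φ I := by
  obtain ⟨W, z, v, sq, hv⟩ := exists_repWith hi φ
  refine ⟨v.left.ker, fun T α => ⟨fun ⟨l, hl⟩ => ?_, fun h => ?_⟩⟩
  · obtain ⟨m, hm⟩ := exists_map_eq (sq.lift l ((yon S).map α) hl)
    have hmv : m ≫ v = α := (yon S).map_injective (by rw [Functor.map_comp, hm, sq.lift_snd])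
    rw [comap_eq_bot_iff, ← show m.left ≫ v.left = α.left from congrArg (fun q => q.left) hmv]
    exact Scheme.Hom.le_ker_comp _ _
  · rw [comap_eq_bot_iff] at h
    let m : T ⟶ W := Over.homMk (IsClosedImmersion.lift v.left α.left h) (by
      rw [← Over.w v, IsClosedImmersion.lift_fac_assoc, Over.w α])
    refine ⟨(yon S).map m ≫ z, ?_⟩
    rw [Category.assoc, sq.w, ← Functor.map_comp_assoc,
      show m ≫ v = α from Over.OverMorphism.ext (IsClosedImmersion.lift_fac _ _ _)]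

/-- pulling a closed subspace back -/
theorem IsPullIdeal.of_isPullback {Y' Z' : Sp S} {i : Z ⟶ Y} {i' : Z' ⟶ Y'} {u : Y' ⟶ Y} {v : Z' ⟶ Z}
    (sq : IsPullback v i' i u) {U : Over S} {φ : (yon S).obj U ⟶ Y'} {I : U.left.IdealSheafData}
    (h : IsPullIdeal i (φ ≫ u) I) : IsPullIdeal i' φ I := fun T α => by
  refine Iff.trans ?_ (h α)
  refine ⟨fun ⟨l, hl⟩ => ⟨l ≫ v, by rw [Category.assoc, sq.w, reassoc_of% hl]⟩, fun ⟨l, hl⟩ => ?_⟩
  exact ⟨sq.lift l ((yon S).map α ≫ φ) (by rw [hl, Category.assoc]), sq.lift_snd _ _ _⟩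

/-- kills through a pullback -/
theorem kills_iff_of_isPullback {X' Y' : Sp S} {f : X ⟶ Y} {f' : X' ⟶ Y'} {u : Y' ⟶ Y} {v : X' ⟶ X}
    (sq : IsPullback v f' f u) {U : Over S} (φ : (yon S).obj U ⟶ Y') (I : U.left.IdealSheafData) :
    Kills f' φ I ↔ Kills f (φ ≫ u) I := by
  refine ⟨fun h T z α e => ?_, fun h T z α e => h (z ≫ v) α ?_⟩
  · exact h (sq.lift z ((yon S).map α ≫ φ) (by rw [e, Category.assoc])) α (sq.lift_snd _ _ _)
  · rw [Category.assoc, sq.w, reassoc_of% e]

theorem kerIdeal_of_isPullback {X' Y' : Sp S} {f : X ⟶ Y} {f' : X' ⟶ Y'} {u : Y' ⟶ Y} {v : X' ⟶ X}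
    (sq : IsPullback v f' f u) {U : Over S} (φ : (yon S).obj U ⟶ Y') :
    kerIdeal f' φ = kerIdeal f (φ ≫ u) :=
  le_antisymm ((kills_iff _ _ _).1 ((kills_iff_of_isPullback sq φ _).1 ((kills_iff _ _ _).2 le_rfl)))
    ((kills_iff _ _ _).1 ((kills_iff_of_isPullback sq φ _).2 ((kills_iff _ _ _).2 le_rfl)))

theorem IsPullIdeal.le_kerIdeal {i : Z ⟶ Y} {U : Over S} {φ : (yon S).obj U ⟶ Y} {I : U.left.IdealSheafData}
    (h : IsPullIdeal i φ I) {f : X ⟶ Y} (f' : X ⟶ Z) (hf : f' ≫ i = f) : I ≤ kerIdeal f φ :=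
  (kills_iff f φ I).1 fun T z α e => (h α).1 ⟨z ≫ f', by rw [Category.assoc, hf, e]⟩

/-- a map lifts along a monomorphism if it does after a locally surjective map -/
theorem exists_lift_of_loc_surj {W : Sp S} (m : Z ⟶ Y) [Mono m] (f : X ⟶ Y) (e : W ⟶ X)
    [Sheaf.IsLocallySurjective e] (l : W ⟶ Z) (h : l ≫ m = e ≫ f) : ∃ k : X ⟶ Z, k ≫ m = f := by
  have : Epi e := (Sheaf.isLocallySurjective_iff_epi' _ e).1 ‹_›
  have : Epi (pullback.fst f m) := epi_of_epi_fac (pullback.lift_fst e l h.symm)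
  have : IsIso (pullback.fst f m) := isIso_of_mono_of_epi _
  exact ⟨inv (pullback.fst f m) ≫ pullback.snd f m, by
    rw [Category.assoc, ← pullback.condition, IsIso.inv_hom_id_assoc]⟩

theorem mono_of_closed {i : Z ⟶ Y} (hi : RepWith @IsClosedImmersion i) : Mono i :=
  mono_of_points i fun T a b e => by
    obtain ⟨W, z, v, sq, hv⟩ := exists_repWith hi (a ≫ i)
    obtain ⟨p, hp⟩ := exists_map_eq (sq.lift a (𝟙 _) (Category.id_comp _).symm)
    obtain ⟨q, hq⟩ := exists_map_eq (sq.lift b (𝟙 _) (by rw [Category.id_comp, e]))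
    have : IsClosedImmersion v.left := hv
    have : Mono v := mono_of_left v
    have hpq : p = q := (cancel_mono v).1 ((yon S).map_injective (by
      rw [Functor.map_comp, Functor.map_comp, hp, hq, sq.lift_snd, sq.lift_snd]))
    calc a = (yon S).map p ≫ z := by rw [hp, sq.lift_fst]
      _ = b := by rw [hpq, hq, sq.lift_fst]

/-- the factorisation criterion on an atlas of the target -/
theorem exists_factor_of_le {i : Z ⟶ Y} (hi : RepWith @IsClosedImmersion i) (hX : IsAlgSpace X)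
    (hY : IsAlgSpace Y) {U : Over S} {π : (yon S).obj U ⟶ Y} (hπ : RepWith @Etale π)
    (hπs : RepWith @Surjective π) {I : U.left.IdealSheafData} (hI : IsPullIdeal i π I) {f : X ⟶ Y}
    (h : I ≤ kerIdeal f π) : ∃ f' : X ⟶ Z, f' ≫ i = f := by
  have := mono_of_closed hi
  have sq := IsPullback.of_hasPullback f π
  have hP : IsAlgSpace (pullback f π) := isAlgSpace_of_isPullback_space hY hX (IsAlgSpace.yon_obj U) sq
  obtain ⟨W, c, hce, hcs⟩ := hP.atlas
  obtain ⟨g, hg⟩ := exists_map_eq (c ≫ pullback.snd f π)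
  have : Sheaf.IsLocallySurjective (c ≫ pullback.fst f π) :=
    Bootstrap.isLocallySurjective_of_atlas (repWith_comp hce (repWith_baseChange sq.flip hπ))
      (repWith_comp hcs (repWith_baseChange sq.flip hπs))
  have e : (c ≫ pullback.fst f π) ≫ f = (yon S).map g ≫ π := by
    rw [hg, Category.assoc, Category.assoc, sq.w]
  obtain ⟨l, hl⟩ := (hI g).2 ((kills_iff f π I).2 h (c ≫ pullback.fst f π) g e)
  exact exists_lift_of_loc_surj i f (c ≫ pullback.fst f π) l (hl.trans e.symm)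

/-- an invariant ideal on an atlas gives a closed subspace -/
theorem exists_closedSub (hX : IsAlgSpace X) {U R : Over S} {π : (yon S).obj U ⟶ X} (hπ : RepWith @Etale π)
    (hπs : RepWith @Surjective π) {t s : R ⟶ U} (sqR : IsPullback ((yon S).map t) ((yon S).map s) π π)
    (I : U.left.IdealSheafData) (hinv : I.comap t.left = I.comap s.left) :
    ∃ (Z : Sp S) (i : Z ⟶ X), IsAlgSpace Z ∧ RepWith @IsClosedImmersion i ∧ IsPullIdeal i π I := by
  let ZU : Over S := Over.mk (I.subschemeι ≫ U.hom)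
  let j : ZU ⟶ U := Over.homMk I.subschemeι rfl
  have : IsClosedImmersion j.left := inferInstanceAs (IsClosedImmersion I.subschemeι)
  have hlift : ∀ ⦃T' : Over S⦄ (α : T' ⟶ U), (∃ l : T' ⟶ ZU, l ≫ j = α) ↔ I.comap α.left = ⊥ := by
    intro T' α
    rw [← exists_lift_iff]
    refine ⟨fun ⟨l, hl⟩ => ⟨l.left, congrArg (fun q => q.left) hl⟩, fun ⟨l, hl⟩ => ?_⟩
    exact ⟨Over.homMk l (by
      show l ≫ I.subschemeι ≫ U.hom = T'.hom
      rw [reassoc_of% hl, Over.w α]), Over.OverMorphism.ext hl⟩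
  have hswap : ∀ ⦃T' : Over S⦄ (ρ : T' ⟶ R) (l : T' ⟶ ZU), l ≫ j = ρ ≫ t → ∃ l' : T' ⟶ ZU, l' ≫ j = ρ ≫ s := by
    intro T' ρ l hl
    have h := (hlift (ρ ≫ t)).1 ⟨l, hl⟩
    refine (hlift (ρ ≫ s)).2 ?_
    rw [Over.comp_left, Scheme.IdealSheafData.comap_comp] at h ⊢
    rwa [← hinv]
  let c : (yon S).obj ZU ⟶ X := (yon S).map j ≫ π
  let i : Sheaf.image c ⟶ X := Sheaf.imageι c
  let e : (yon S).obj ZU ⟶ Sheaf.image c := Sheaf.toImage c
  have hei : e ≫ i = (yon S).map j ≫ π := Sheaf.toImage_ι c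
  have : Mono i := inferInstanceAs (Mono (Sheaf.imageι c))
  have : Mono j.left := inferInstance
  have : Mono j := mono_of_left j
  have : Sheaf.IsLocallySurjective e :=
    (Sheaf.isLocallySurjective_iff_epi' _ e).2 (inferInstanceAs (Epi (Sheaf.toImage c)))
  have sq : IsPullback e ((yon S).map j) i π := by
    refine isPullback_of_points hei fun T' a b hab => ?_
    obtain ⟨b, rfl⟩ := exists_map_eq b
    obtain ⟨W, jW, bW, sqW⟩ : ∃ (W : Over S) (jW : W ⟶ T') (bW : W ⟶ ZU),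
        IsPullback bW.left jW.left j.left b.left :=
      ⟨Over.mk (pullback.snd j.left b.left ≫ T'.hom), Over.homMk (pullback.snd j.left b.left) rfl,
        Over.homMk (pullback.fst j.left b.left) (by
          show pullback.fst j.left b.left ≫ j.left ≫ U.hom = pullback.snd j.left b.left ≫ T'.hom
          rw [pullback.condition_assoc, Over.w b]), IsPullback.of_hasPullback _ _⟩
    have sqW' : IsPullback ((yon S).map bW) ((yon S).map jW) ((yon S).map j) ((yon S).map b) :=
      isPullback_yon_iff.2 sqW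
    have : Mono ((yon S).map jW) := sqW'.mono_snd_of_mono
    let q := pullback.snd e a
    have : Sheaf.IsLocallySurjective q :=
      isLocallySurjective_of_isPullback (IsPullback.of_hasPullback e a).flip
    have hq : ∃ l : pullback e a ⟶ (yon S).obj W, l ≫ (yon S).map jW = q := by
      let ρ := sqR.lift (pullback.fst e a ≫ (yon S).map j) (q ≫ (yon S).map b) (by
        rw [Category.assoc, Category.assoc, ← hei, ← hab, reassoc_of% (pullback.condition (f := e) (g := a))])
      refine SpQS.exists_lift_mono q _ fun T'' z => ?_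
      obtain ⟨ρ', hρ'⟩ := exists_map_eq (z ≫ ρ)
      obtain ⟨u', hu'⟩ := exists_map_eq (z ≫ pullback.fst e a)
      obtain ⟨l', hl'⟩ := hswap ρ' u' ((yon S).map_injective (by
        rw [Functor.map_comp, Functor.map_comp, hρ', hu', Category.assoc, Category.assoc, sqR.lift_fst]))
      refine ⟨sqW'.lift ((yon S).map l') (z ≫ q) ?_, sqW'.lift_snd _ _ _⟩
      rw [← Functor.map_comp, hl', Functor.map_comp, hρ', Category.assoc, Category.assoc, sqR.lift_snd]
    obtain ⟨l, hl⟩ := hq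
    have : Epi q := (Sheaf.isLocallySurjective_iff_epi' _ q).1 ‹_›
    have : Epi ((yon S).map jW) := epi_of_epi_fac hl
    have : IsIso ((yon S).map jW) := isIso_of_mono_of_epi _
    have hcan : ∀ k : (yon S).obj T' ⟶ (yon S).obj ZU, k ≫ (yon S).map j = (yon S).map b → k ≫ e = a := fun k hk => by
      rw [← cancel_mono i, Category.assoc, hei, reassoc_of% hk, hab]
    refine ⟨inv ((yon S).map jW) ≫ (yon S).map bW, ⟨hcan _ ?_, ?_⟩, fun k hk => ?_⟩
    · rw [Category.assoc, sqW'.w, IsIso.inv_hom_id_assoc]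
    · rw [Category.assoc, sqW'.w, IsIso.inv_hom_id_assoc]
    · rw [← cancel_mono ((yon S).map j), hk.2, Category.assoc, sqW'.w, IsIso.inv_hom_id_assoc]
  have hcov : IsFppfCover (fun _ : PUnit.{u + 1} => (yon S).obj U) (fun _ => π) :=
    ⟨fun _ => ⟨(locP_iff_repWith etST_flat hX hπ.1).2 (repWith_mono (fun _ _ r hr => by
        have : Etale r := hr
        infer_instance) hπ),
      (locP_iff_repWith etST_lfp hX hπ.1).2 (repWith_mono (fun _ _ r hr => by
        have : Etale r := hr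
        infer_instance) hπ)⟩, fun x => ⟨PUnit.unit, isSurjectiveMor_of_repWith hπs x⟩⟩
  have hi : RepWith @IsClosedImmersion i := repWith_of_fppfCover @IsClosedImmersion
    (fun _ _ r hr => by
      have : IsClosedImmersion r := hr
      exact QA.IndQA.of_isImmersion r) hX (fun _ => IsAlgSpace.yon_obj U) hcov i (fun _ => (yon S).obj ZU)
    (fun _ => (yon S).map j) (fun _ => e) (fun _ => sq) (fun _ => (repWith_yon_iff j).2 ‹_›)
  refine ⟨_, i, isAlgSpace_of_repBySp (Representable.repBySp hi.1) hX, hi, fun T α => ?_⟩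
  refine Iff.trans ?_ (hlift α)
  refine ⟨fun ⟨l, hl⟩ => ?_, fun ⟨l, hl⟩ => ⟨(yon S).map l ≫ e, ?_⟩⟩
  · obtain ⟨m, hm⟩ := exists_map_eq (sq.lift l ((yon S).map α) hl)
    exact ⟨m, (yon S).map_injective (by rw [Functor.map_comp, hm, sq.lift_snd])⟩
  · rw [Category.assoc, hei, ← Functor.map_comp_assoc, hl]

theorem IsPullIdeal.invariant {i : Z ⟶ Y} {U R : Over S} {π : (yon S).obj U ⟶ Y} {t s : R ⟶ U}
    (sqR : IsPullback ((yon S).map t) ((yon S).map s) π π) {I : U.left.IdealSheafData}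
    (h : IsPullIdeal i π I) : I.comap t.left = I.comap s.left :=
  ((h.comap t).unique (sqR.w.symm ▸ h.comap s))

/-- existence of scheme theoretic images -/
theorem exists_schImage (f : X ⟶ Y) (hX : IsAlgSpace X) (hY : IsAlgSpace Y) :
    ∃ (Z : Sp S) (i : Z ⟶ Y), IsAlgSpace Z ∧ IsSchImage f i := by
  obtain ⟨U, π, hπ, hπs⟩ := hY.atlas
  obtain ⟨R, t, s, sqR⟩ := exists_pullback hY.diag π π
  let J := sSup {I : U.left.IdealSheafData | I.comap t.left = I.comap s.left ∧ I ≤ kerIdeal f π}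
  have hJ : J.comap t.left = J.comap s.left := by
    rw [comap_sSup, comap_sSup]
    exact iSup_congr fun I => iSup_congr fun hI => hI.1
  obtain ⟨Z, i, hZ, hi, hiI⟩ := exists_closedSub hY hπ hπs sqR J hJ
  refine ⟨Z, i, hZ, hi, exists_factor_of_le hi hX hY hπ hπs hiI (sSup_le fun I hI => hI.2),
    fun Z' i' hZ' hi' ⟨f'', hf''⟩ => ?_⟩
  obtain ⟨I', hI'⟩ := exists_pullIdeal hi' π
  refine exists_factor_of_le hi' hZ hY hπ hπs hI' ((kills_iff i π I').1 fun T z α e => ?_)
  refine le_bot_iff.1 ((Scheme.IdealSheafData.comap_mono α.left ?_).trans ((hiI α).1 ⟨z, e⟩).le)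
  exact le_sSup ⟨hI'.invariant sqR, hI'.le_kerIdeal f'' hf''⟩

end Groth.Agent.SchImg
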