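import Groth.Agent.SchImg.QcImage

/-!
# Points of closed subspaces and of scheme theoretic images
-/

set_option autoImplicit false

universe u

open CategoryTheory CategoryTheory.Limits AlgebraicGeometry

set_option backward.isDefEq.respectTransparency false

namespace Groth.Agent.SchImg

open _root_.AlgSp Groth.Agent.AlgSpLib

variable {S : Scheme.{u}} {X Y Z : Sp S}

theorem IsPullIdeal.mem_range_iff {i : Z ⟶ Y} {U : Over S} {φ : (yon S).obj U ⟶ Y}
    {I : U.left.IdealSheafData} (h : IsPullIdeal i φ I) (u : ↥U.left) :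
    Points.ofPt φ u ∈ Set.range (Points.map i) ↔ u ∈ I.support := by
  refine ⟨fun ⟨x, hx⟩ => ?_, fun hu => ?_⟩
  · obtain ⟨T, g, t, rfl⟩ := exists_ofPt x
    rw [Points.map_ofPt] at hx
    obtain ⟨K, α, β, k, e, -, rfl⟩ := exists_of_ofPt_eq hx
    have h0 := (comap_eq_bot_iff _ _).1 ((h β).1 ⟨(yon S).map α ≫ g, by rw [Category.assoc, e]⟩)
    exact Scheme.IdealSheafData.support_antitone h0 (β.left.range_subset_ker_support ⟨k, rfl⟩)
  · let T : Over S := Over.mk (I.subschemeι ≫ U.hom)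
    let α : T ⟶ U := Over.homMk I.subschemeι rfl
    obtain ⟨l, hl⟩ := (h α).2 ((comap_subschemeι_eq_bot_iff I I).2 le_rfl)
    obtain ⟨w, rfl⟩ : u ∈ Set.range I.subschemeι := by rw [I.range_subschemeι]; exact hu
    exact ⟨Points.ofPt l w, by rw [Points.map_ofPt, hl, ofPt_comp]; rfl⟩

/-- the support of the kernel is seen by the points of the source -/
theorem ofPt_mem_closure_range {f : X ⟶ Y} (hX : IsAlgSpace X) (hY : IsAlgSpace Y) (hf : IsQuasiCompactMor f)
    {U : Over S} (φ : (yon S).obj U ⟶ Y) {u : ↥U.left} (hu : u ∈ (kerIdeal f φ).support) :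
    Points.ofPt φ u ∈ closure (Set.range (Points.map f)) := by
  obtain ⟨O, hO, huO, -⟩ := exists_isAffineOpen_mem_and_subset (TopologicalSpace.Opens.mem_top u)
  let UO : Over S := Over.mk (O.ι ≫ U.hom)
  let jO : UO ⟶ U := Over.homMk O.ι rfl
  have : IsAffine UO.left := hO
  obtain ⟨W, c, g, hce, hcs, hg, hqc⟩ := exists_qc_atlas hX hY hf ((yon S).map jO ≫ φ)
  have sq := IsPullback.of_hasPullback f ((yon S).map jO ≫ φ)
  have hP : IsAlgSpace (pullback f ((yon S).map jO ≫ φ)) :=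
    isAlgSpace_of_isPullback_space hY hX (IsAlgSpace.yon_obj UO) sq
  have key := kerIdeal_comap_open hX hY hf φ O hO
  rw [kerIdeal_eq_ker hP sq hce hcs hg] at key
  have hmem : (⟨u, huO⟩ : O) ∈ g.left.ker.support := by
    rw [key, Scheme.IdealSheafData.support_comap]
    exact hu
  rw [← SetLike.mem_coe, Scheme.Hom.support_ker] at hmem
  have hcl := image_closure_subset_closure_image
    (Points.continuous_ofPt ((yon S).map jO ≫ φ)) ⟨_, hmem, rfl⟩
  rw [ofPt_comp] at hcl
  refine closure_mono ?_ hcl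
  rintro _ ⟨_, ⟨w, rfl⟩, rfl⟩
  exact ⟨Points.ofPt (c ≫ pullback.fst _ _) w, by
    rw [Points.map_ofPt, Category.assoc, pullback.condition, ← reassoc_of% hg, ofPt_comp]⟩

theorem range_subset_closure {f : X ⟶ Y} (hX : IsAlgSpace X) (hY : IsAlgSpace Y) (hf : IsQuasiCompactMor f)
    {i : Z ⟶ Y} (h : IsSchImage f i) :
    Set.range (Points.map i) ⊆ closure (Set.range (Points.map f)) := by
  rintro _ ⟨z, rfl⟩
  obtain ⟨U, π, hπ, hπs⟩ := hY.atlas
  obtain ⟨u, e⟩ := ofPt_surjective hπs (Points.map i z)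
  rw [← e]
  exact ofPt_mem_closure_range hX hY hf π
    (((pullIdeal_eq_kerIdeal_atlas hX hY hf h hπ hπs).mem_range_iff u).1 ⟨z, e.symm⟩)

end Groth.Agent.SchImg
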