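import Groth.Agent.SchImg.IdealRepQcoh

/-!
# A quasi-coherent ideal family cuts out a closed subspace
-/

set_option autoImplicit false

universe u

open CategoryTheory CategoryTheory.Limits AlgebraicGeometry

set_option backward.isDefEq.respectTransparency false

namespace Groth.Agent.SchImg

open _root_.AlgSp Groth.Agent.AlgSpLib

variable {S : Scheme.{u}} {X : Sp S}

/-- the ideal sheaf on an affine object -/
noncomputable def ofE (I : IdealEt X) (E : EtOver X) (hE : IsAffine E.obj.left.left) :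
    E.obj.left.left.IdealSheafData :=
  Scheme.IdealSheafData.ofIdealTop (I.ideal E hE)

theorem ofE_ideal_top (I : IdealEt X) (E : EtOver X) (hE : IsAffine E.obj.left.left) :
    (ofE I E hE).ideal ⟨⊤, isAffineOpen_top _⟩ = I.ideal E hE :=
  Scheme.IdealSheafData.equivOfIsAffine.apply_symm_apply _

theorem comap_ofE {I : IdealEt X} (hI : I.IsQCoh) {E E' : EtOver X} (hE : IsAffine E.obj.left.left)
    (hE' : IsAffine E'.obj.left.left) (g : E'.obj.left ⟶ E.obj.left)
    (w : (yon S).map g ≫ E.obj.hom = E'.obj.hom) : (ofE I E hE).comap g.left = ofE I E' hE' := by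
  refine Scheme.IdealSheafData.ext_of_isAffine ?_
  rw [ideal_comap_top, ofE_ideal_top, ofE_ideal_top]
  exact le_antisymm (I.map_le (EtOver.homMk g w) hE hE') (hI (EtOver.homMk g w) hE hE')

theorem exists_chart_ideal {I : IdealEt X} (hI : I.IsQCoh) {U : Over S} {π : (yon S).obj U ⟶ X}
    (hπ : RepWith @Etale π) :
    ∃ K : U.left.IdealSheafData, ∀ (E : EtOver X) (hE : IsAffine E.obj.left.left) (β : E.obj.left ⟶ U),
      (yon S).map β ≫ π = E.obj.hom → K.comap β.left = ofE I E hE := by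
  let ι' := {V : U.left.Opens // IsAffineOpen V}
  let J : ∀ i : ι', (i.1 : Scheme.{u}).IdealSheafData := fun i => ofE I (openChart hπ i.1) i.2
  have hsup : ⨆ i : ι', i.1 = ⊤ := eq_top_iff.2 fun x _ => by
    obtain ⟨W, hW, hxW⟩ := exists_affine_nhd x
    exact TopologicalSpace.Opens.mem_iSup.2 ⟨⟨W, hW⟩, hxW⟩
  have hcov : Presieve.ofArrows (fun i : ι' => (i.1 : Scheme.{u})) (fun i => i.1.ι) ∈
      Scheme.fpqcPrecoverage U.left :=
    Scheme.zariskiPrecoverage_le_fpqcPrecoverage _ (U.left.openCoverOfIsOpenCover _ hsup).mem₀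
  have hcompat : ∀ i j, (J i).comap (pullback.fst i.1.ι j.1.ι) = (J j).comap (pullback.snd i.1.ι j.1.ι) := by
    intro i j
    refine eq_of_forall_comap_affine fun W hW => ?_
    let T : Over S := Over.mk (W.ι ≫ pullback.fst i.1.ι j.1.ι ≫ i.1.ι ≫ U.hom)
    let q : T ⟶ U := Over.homMk (W.ι ≫ pullback.fst i.1.ι j.1.ι ≫ i.1.ι) (by simp [T])
    let a : T ⟶ Over.mk (i.1.ι ≫ U.hom) := Over.homMk (W.ι ≫ pullback.fst i.1.ι j.1.ι) (by simp [T])
    let b : T ⟶ Over.mk (j.1.ι ≫ U.hom) := Over.homMk (W.ι ≫ pullback.snd i.1.ι j.1.ι) (by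
      simp [T, pullback.condition_assoc])
    let ET : EtOver X := EtOver.mk ((yon S).map q ≫ π) (repWith_comp ((repWith_yon_iff q).2
      (inferInstanceAs (Etale (W.ι ≫ pullback.fst i.1.ι j.1.ι ≫ i.1.ι)))) hπ)
    rw [← Scheme.IdealSheafData.comap_comp, ← Scheme.IdealSheafData.comap_comp]
    refine (comap_ofE hI (E := openChart hπ i.1) (E' := ET) i.2 hW a ?_).trans
      (comap_ofE hI (E := openChart hπ j.1) (E' := ET) j.2 hW b ?_).symm
    · show (yon S).map a ≫ (yon S).map _ ≫ π = (yon S).map q ≫ π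
      rw [← Functor.map_comp_assoc]
      congr 2
    · show (yon S).map b ≫ (yon S).map _ ≫ π = (yon S).map q ≫ π
      rw [← Functor.map_comp_assoc]
      congr 2
      exact Over.OverMorphism.ext (show (W.ι ≫ pullback.snd i.1.ι j.1.ι) ≫ j.1.ι = W.ι ≫ pullback.fst i.1.ι j.1.ι ≫ i.1.ι by
        rw [Category.assoc, pullback.condition])
  obtain ⟨K, hK, -⟩ := FpqcDescent.existsUnique_descent hcov J hcompat
  refine ⟨K, fun E hE β w => ?_⟩
  let κ := {p : E.obj.left.left.affineOpens × ι' // p.1.1 ≤ β.left ⁻¹ᵁ p.2.1}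
  refine GrpdFit.eq_of_comap_opens (fun p : κ => p.1.1.1) (eq_top_iff.2 fun x _ => ?_) _ _ fun p => ?_
  · obtain ⟨O, hO, hxO⟩ := exists_affine_nhd (β.left x)
    obtain ⟨V, hV, hxV, hVO⟩ := exists_isAffineOpen_mem_and_subset (show x ∈ β.left ⁻¹ᵁ O from hxO)
    exact TopologicalSpace.Opens.mem_iSup.2 ⟨⟨(⟨V, hV⟩, ⟨O, hO⟩), hVO⟩, hxV⟩
  · obtain ⟨⟨W, i⟩, hWi⟩ := p
    let EW : EtOver X := openChart E.property W.1
    let c : EW.obj.left ⟶ Over.mk (i.1.ι ≫ U.hom) := Over.homMk (β.left.resLE i.1 W.1 hWi) (by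
      show β.left.resLE i.1 W.1 hWi ≫ i.1.ι ≫ U.hom = W.1.ι ≫ E.obj.left.hom
      rw [Scheme.Hom.resLE_comp_ι_assoc, Over.w β])
    let j : EW.obj.left ⟶ E.obj.left := Over.homMk W.1.ι rfl
    refine Eq.trans ?_ (comap_ofE hI (E := E) (E' := EW) hE W.2 j rfl).symm
    rw [← Scheme.IdealSheafData.comap_comp,
      show W.1.ι ≫ β.left = β.left.resLE i.1 W.1 hWi ≫ i.1.ι from (Scheme.Hom.resLE_comp_ι _ _).symm,
      Scheme.IdealSheafData.comap_comp, hK i]
    exact comap_ofE hI (E := openChart hπ i.1) (E' := EW) i.2 W.2 c (by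
      show (yon S).map c ≫ (yon S).map _ ≫ π = (yon S).map j ≫ E.obj.hom
      rw [← w, ← Functor.map_comp_assoc, ← Functor.map_comp_assoc]
      congr 2
      exact Over.OverMorphism.ext (Scheme.Hom.resLE_comp_ι _ _))

theorem exists_isCutOutBy {I : IdealEt X} (hX : IsAlgSpace X) (hI : I.IsQCoh) :
    ∃ (Z : Sp S) (i : Z ⟶ X), IsAlgSpace Z ∧ IsCutOutBy I i := by
  obtain ⟨U, π, hπ, hπs⟩ := hX.atlas
  obtain ⟨K, hK⟩ := exists_chart_ideal hI hπ
  obtain ⟨R, t, s, sqR⟩ := exists_pullback hX.diag π π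
  have : Etale t.left := (repWith_yon_iff t).1 (repWith_baseChange sqR.flip hπ)
  have hinv : K.comap t.left = K.comap s.left := eq_of_forall_comap_affine fun W hW => by
    let j : Over.mk (W.ι ≫ R.hom) ⟶ R := Over.homMk W.ι rfl
    let E : EtOver X := openChart (repWith_comp ((repWith_yon_iff t).2 ‹Etale t.left›) hπ) W
    rw [← Scheme.IdealSheafData.comap_comp, ← Scheme.IdealSheafData.comap_comp]
    refine (hK E hW (j ≫ t) ?_).trans (hK E hW (j ≫ s) ?_).symm
    · exact (congrArg (· ≫ π) ((yon S).map_comp j t)).trans (Category.assoc _ _ _)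
    · rw [Functor.map_comp, Category.assoc, ← sqR.w]; rfl
  obtain ⟨Z, i, hZ, hi, hK'⟩ := exists_closedSub hX hπ hπs sqR K hinv
  refine ⟨Z, i, hZ, hi, IdealEt.ext (funext fun E => funext fun hE => ?_)⟩
  obtain ⟨J, hJ⟩ := exists_pullIdeal hi E.obj.hom
  obtain ⟨V, e, β, sqV⟩ := exists_pullback hX.diag E.obj.hom π
  have : Etale e.left := (repWith_yon_iff e).1 (repWith_baseChange sqV.flip hπ)
  have : Surjective e.left := (repWith_yon_iff e).1 (repWith_baseChange sqV.flip hπs)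
  rw [idealOfRep_eq hi E hE hJ]
  refine (congrArg (fun K' : E.obj.left.left.IdealSheafData => K'.ideal ⟨⊤, isAffineOpen_top _⟩)
    (eq_of_comap_eq e.left (I := J) (J := ofE I E hE) ?_)).trans (ofE_ideal_top I E hE)
  have h2 := hK'.comap β
  rw [← sqV.w] at h2
  rw [(hJ.comap e).unique h2]
  refine eq_of_forall_comap_affine fun W hW => ?_
  let j : Over.mk (W.ι ≫ V.hom) ⟶ V := Over.homMk W.ι rfl
  let EW : EtOver X := openChart (repWith_comp ((repWith_yon_iff e).2 ‹Etale e.left›) E.property) W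
  rw [← Scheme.IdealSheafData.comap_comp, ← Scheme.IdealSheafData.comap_comp]
  refine (hK EW hW (j ≫ β) ?_).trans (comap_ofE hI (E := E) (E' := EW) hE hW (j ≫ e) ?_).symm
  · rw [Functor.map_comp, Category.assoc, ← sqV.w]; rfl
  · exact (congrArg (· ≫ E.obj.hom) ((yon S).map_comp j e)).trans (Category.assoc _ _ _)

end Groth.Agent.SchImg
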