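import Groth.Agent.SchImg.IdealEtBridge

/-!
# The ideal of a quasi-compact representable morphism
-/

set_option autoImplicit false

universe u

open CategoryTheory CategoryTheory.Limits AlgebraicGeometry

set_option backward.isDefEq.respectTransparency false

namespace Groth.Agent.SchImg

open _root_.AlgSp Groth.Agent.AlgSpLib

variable {S : Scheme.{u}} {X Y Z : Sp S}

theorem eq_of_forall_comap_affine {U : Scheme.{u}} {I J : U.IdealSheafData}
    (h : ∀ O : U.Opens, IsAffineOpen O → I.comap O.ι = J.comap O.ι) : I = J := by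
  refine Scheme.IdealSheafData.ext (funext fun O => ?_)
  have : IsAffine (O.1 : Scheme.{u}) := O.2
  have e : (⟨O.1.ι ''ᵁ ⊤, (isAffineOpen_top _).image_of_isOpenImmersion _⟩ : U.affineOpens) = O :=
    Subtype.ext O.1.ι_image_top
  rw [← e]
  have h1 := congrArg (fun K : (O.1 : Scheme.{u}).IdealSheafData => K.ideal ⟨⊤, isAffineOpen_top _⟩) (h O.1 O.2)
  simp only [Scheme.IdealSheafData.ideal_comap_of_isOpenImmersion] at h1
  exact Ideal.comap_injective_of_surjective _
    ((O.1.ι.appIso ⊤).symm.commRingCatIsoToRingEquiv.surjective) h1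

theorem ideal_comap_top {U V : Scheme.{u}} [IsAffine U] [IsAffine V] (g : U ⟶ V) (J : V.IdealSheafData) :
    (J.comap g).ideal ⟨⊤, isAffineOpen_top U⟩ = (J.ideal ⟨⊤, isAffineOpen_top V⟩).map g.appTop.hom := by
  have hle : (⊤ : U.Opens) ≤ g ⁻¹ᵁ (⊤ : V.Opens) := le_rfl
  rw [FpqcDescent.ideal_comap_appLE J g ⟨⊤, isAffineOpen_top V⟩ ⟨⊤, isAffineOpen_top U⟩ hle]
  show Ideal.map (g.appLE ⊤ ⊤ hle).hom _ = _
  rw [show g.appLE ⊤ ⊤ hle = g.appTop from (Scheme.Hom.app_eq_appLE g).symm]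

theorem idealOfRep_eq_kerIdeal {f : X ⟶ Y} (hX : IsAlgSpace X) (hY : IsAlgSpace Y) (hf : Representable f)
    (hqc : IsQuasiCompactMor f) (E : EtOver Y) (hE : IsAffine E.obj.left.left) :
    (idealOfRep hf).ideal E hE = (kerIdeal f E.obj.hom).ideal ⟨⊤, isAffineOpen_top _⟩ := by
  have : QuasiCompact (EtOver.bcπ hf E).left :=
    ((isQuasiCompactMor_iff_repWith hX hY hf).1 hqc).2 _ _ _ (EtOver.isPullback_bcObj hf E)
  rw [kerIdeal_eq_ker_of_yon (EtOver.isPullback_bcObj hf E), Scheme.Hom.ker_apply]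
  rfl

theorem idealOfRep_isQCoh {f : X ⟶ Y} (hX : IsAlgSpace X) (hY : IsAlgSpace Y) (hf : Representable f)
    (hqc : IsQuasiCompactMor f) : (idealOfRep hf).IsQCoh := fun E E' g hE hE' => by
  have : Etale g.hom.left.left := EtOver.etale_left g
  rw [idealOfRep_eq_kerIdeal hX hY hf hqc E' hE', idealOfRep_eq_kerIdeal hX hY hf hqc E hE, ← EtOver.w g,
    kerIdeal_comap_affine hX hY hqc E.obj.hom g.hom.left, ideal_comap_top]

theorem isSchImage_iff_isCutOutBy {f : X ⟶ Y} (hX : IsAlgSpace X) (hY : IsAlgSpace Y) (hf : Representable f)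
    (hqc : IsQuasiCompactMor f) (i : Z ⟶ Y) : IsSchImage f i ↔ IsCutOutBy (idealOfRep hf) i := by
  refine ⟨fun h => ⟨h.1, IdealEt.ext (funext fun E => funext fun hE => ?_)⟩, fun ⟨hi, e⟩ => ?_⟩
  · rw [idealOfRep_eq h.1 E hE (pullIdeal_eq_kerIdeal hX hY hqc h _ (locP_flat_of_etale hY E.property)),
      idealOfRep_eq_kerIdeal hX hY hf hqc E hE]
  · obtain ⟨U, π, hπ, hπs⟩ := hY.atlas
    obtain ⟨J, hJ⟩ := exists_pullIdeal hi π
    refine isSchImage_of_kerIdeal hX hY hi hπ hπs ?_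
    rw [show kerIdeal f π = J from eq_of_forall_comap_affine fun O hO => ?_]
    · exact hJ
    · let j : Over.mk (O.ι ≫ U.hom) ⟶ U := Over.homMk O.ι rfl
      have : IsAffine (openChart hπ O).obj.left.left := hO
      have : IsAffine (Over.mk (O.ι ≫ U.hom)).left := hO
      rw [← kerIdeal_comap_open hX hY hqc π O hO]
      refine Scheme.IdealSheafData.ext_of_isAffine ?_
      show (kerIdeal f (openChart hπ O).obj.hom).ideal _ = (J.comap j.left).ideal _
      rw [← idealOfRep_eq hi (openChart hπ O) hO (hJ.comap j), e, idealOfRep_eq_kerIdeal hX hY hf hqc (openChart hπ O) hO]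

end Groth.Agent.SchImg
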