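import Groth.Agent.SchImg.LimSpace
import Groth.Agent.LimExist.Top
import Groth.Prelude.Def_AlgSpDec

/-!
# Points of a cofiltered limit of algebraic spaces
-/

set_option autoImplicit false

universe u

open CategoryTheory CategoryTheory.Limits AlgebraicGeometry Opposite

set_option backward.isDefEq.respectTransparency false

namespace Groth.Agent.SchImg

open _root_.AlgSp Groth.Agent.AlgSpLib

variable {S : Scheme.{u}}

theorem injective_points_of_mono {P G : Sp S} (m : P ⟶ G) [Mono m] : Function.Injective (Points.map m) := by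
  intro x y e
  obtain ⟨T, a, t, rfl⟩ := exists_ofPt x
  obtain ⟨T', b, t', rfl⟩ := exists_ofPt y
  rw [Points.map_ofPt, Points.map_ofPt] at e
  obtain ⟨K, α, β, k, h, rfl, rfl⟩ := exists_of_ofPt_eq e
  rw [← ofPt_comp, ← ofPt_comp]
  rw [← Category.assoc, ← Category.assoc, cancel_mono] at h
  rw [h]

theorem injective_ofPt_of_mono {W : Over S} {G : Sp S} (m : (yon S).obj W ⟶ G) [Mono m] :
    Function.Injective (Points.ofPt m) := fun x y e => by
  rw [Points.ofPt_eq_map_ofScheme, Points.ofPt_eq_map_ofScheme] at e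
  exact (Points.schemeEquiv W).injective (injective_points_of_mono m e)

theorem exists_ofPt_pullback {X Y : Sp S} {f : X ⟶ Y} {W V : Over S} {g : (yon S).obj V ⟶ Y}
    {z : (yon S).obj W ⟶ X} {v : W ⟶ V} (sq : IsPullback z ((yon S).map v) f g) {x : Points X} {t : ↥V.left}
    (e : Points.map f x = Points.ofPt g t) : ∃ w, Points.ofPt z w = x := by
  obtain ⟨T, a, s, rfl⟩ := exists_ofPt x
  rw [Points.map_ofPt] at e
  obtain ⟨K, α, β, k, h, rfl, -⟩ := exists_of_ofPt_eq e
  rw [← Category.assoc] at h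
  obtain ⟨l, hl⟩ := exists_map_eq (sq.lift _ _ h)
  exact ⟨l.left k, by rw [← ofPt_comp, hl, sq.lift_fst, ofPt_comp]⟩

theorem points_lim {I : Type u} [SmallCategory I] [IsCofiltered I] (D : I ⥤ Sp S)
    (hDa : ∀ (i j : I) (φ : i ⟶ j), IsAffineMor (D.map φ)) (c : Cone D) (hc : IsLimit c)
    (hdec : ∀ i, IsDecent (D.obj i)) :
    (∀ x x' : Points c.pt, (∀ i, Points.map (c.π.app i) x = Points.map (c.π.app i) x') → x = x') ∧
    (∀ s : ∀ i, Points (D.obj i), (∀ (i j : I) (φ : i ⟶ j), Points.map (D.map φ) (s i) = s j) →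
      ∃ x : Points c.pt, ∀ i, Points.map (c.π.app i) x = s i) := by
  obtain ⟨i₀⟩ := IsCofiltered.nonempty (C := I)
  have key : ∀ x₀ : Points (D.obj i₀), ∃ (W : Over S) (z : (yon S).obj W ⟶ c.pt),
      (∀ x, Points.map (c.π.app i₀) x = x₀ → ∃ w, Points.ofPt z w = x) ∧
      (∀ w w', (∀ i, Points.map (c.π.app i) (Points.ofPt z w) = Points.map (c.π.app i) (Points.ofPt z w')) → w = w') ∧
      (∀ s : ∀ i, Points (D.obj i), (∀ (i j : I) (φ : i ⟶ j), Points.map (D.map φ) (s i) = s j) → s i₀ = x₀ →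
        ∃ w, ∀ i, Points.map (c.π.app i) (Points.ofPt z w) = s i) := by
    intro x₀
    obtain ⟨p, hp, hm, -⟩ := hdec i₀ x₀
    have : IsAffine p.pt.left := inferInstanceAs (IsAffine (Spec (CommRingCat.of p.K)))
    have hx₀ : Points.ofPt p.toHom (IsLocalRing.closedPoint p.K) = x₀ := by rw [Points.ofPt_toHom, hp]
    obtain ⟨W, v, z, -, sq, -, G, zz, vv, L, pp, e, ⟨hL⟩, hG, hpp, sqj, hnat, hfac, -, -⟩ :=
      exists_lim_square D (fun i j φ => (isAffineMor_iff_repWith _).1 (hDa i j φ)) c hc i₀ p.toHom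
    have hmono : ∀ j, Mono (zz j) := fun j => (sqj j).mono_fst_of_mono
    have hw : ∀ (j : Over i₀) (w : ↥W.left), Points.map (c.π.app j.left) (Points.ofPt z w) =
        Points.ofPt (zz j) ((pp j).left w) := fun j w => by
      rw [Points.map_ofPt, ← hfac j, ofPt_comp]
    have : ∀ j, IsAffine ((G ⋙ Over.forget S).obj j) := hG
    refine ⟨W, z, fun x hx => exists_ofPt_pullback sq (hx.trans hx₀.symm), fun w w' h => ?_, fun s hs hs₀ => ?_⟩
    · have : IsIso (eqToHom e.symm : W.left ⟶ L.pt) := inferInstance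
      apply (asIso (eqToHom e.symm : W.left ⟶ L.pt)).hom.homeomorph.injective
      obtain ⟨hT⟩ : Nonempty (IsLimit (Scheme.forgetToTop.mapCone L)) :=
        ⟨(LimExist.forgetToTop_isLimit _ L hL).some⟩
      refine Concrete.isLimit_ext _ hT _ _ fun j => ?_
      have h1 := h j.left
      rw [hw, hw] at h1
      have := hmono j
      have h2 := injective_ofPt_of_mono (zz j) h1
      rw [hpp] at h2
      exact h2
    · have hex : ∀ j : Over i₀, ∃ u, Points.ofPt (zz j) u = s j.left := fun j =>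
        exists_ofPt_pullback (sqj j) ((hs _ _ j.hom).trans (hs₀.trans hx₀.symm))
      choose u hu using hex
      have hcomp : ∀ {j k : Over i₀} (a : j ⟶ k), ((G ⋙ Over.forget S).map a) (u j) = u k := fun {j k} a => by
        have := hmono k
        refine injective_ofPt_of_mono (zz k) ?_
        show Points.ofPt (zz k) ((G.map a).left (u j)) = _
        rw [← ofPt_comp, hnat, ← Points.map_ofPt, hu, hu, hs _ _ a.left]
      obtain ⟨y, hy⟩ := LimExist.exists_point_of_affine _ L hL hG u hcomp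
      refine ⟨(eqToHom e) y, fun i => ?_⟩
      let k := IsCofiltered.min i₀ i
      let j : Over i₀ := Over.mk (IsCofiltered.minToLeft i₀ i : k ⟶ i₀)
      rw [← c.w (IsCofiltered.minToRight i₀ i : k ⟶ i), Points.map_comp,
        show c.π.app k = c.π.app j.left from rfl, hw, hpp, Scheme.Hom.comp_apply, ← Scheme.Hom.comp_apply (eqToHom e)]
      rw [eqToHom_trans, eqToHom_refl]
      show Points.map (D.map _) (Points.ofPt (zz j) (L.π.app j y)) = s i
      rw [hy, hu]
      exact hs _ _ _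
  refine ⟨fun x x' h => ?_, fun s hs => ?_⟩
  · obtain ⟨W, z, h1, h2, -⟩ := key (Points.map (c.π.app i₀) x)
    obtain ⟨w, rfl⟩ := h1 x rfl
    obtain ⟨w', rfl⟩ := h1 x' (h i₀).symm
    rw [h2 w w' h]
  · obtain ⟨W, z, -, -, h3⟩ := key (s i₀)
    obtain ⟨w, hw⟩ := h3 s hs rfl
    exact ⟨Points.ofPt z w, fun i => hw i⟩

end Groth.Agent.SchImg
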