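import Groth.Agent.SchImg.CartierSub

/-!
# Limits of closed immersions
-/

set_option autoImplicit false

universe u

open CategoryTheory CategoryTheory.Limits AlgebraicGeometry

set_option backward.isDefEq.respectTransparency false

namespace Groth.Agent.SchImg

open _root_.AlgSp Groth.Agent.AlgSpLib

variable {S : Scheme.{u}} {X D : Sp S}

theorem repWith_closed_of_pullIdeal {i : D ⟶ X} [Mono i]
    (h : ∀ (U : Over S) (φ : (yon S).obj U ⟶ X), ∃ I : U.left.IdealSheafData, IsPullIdeal i φ I) :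
    RepWith @IsClosedImmersion i := by
  refine repWith_of_exists fun U φ => ?_
  obtain ⟨I, hI⟩ := h U φ
  let v : Over.mk (I.subschemeι ≫ U.hom) ⟶ U := Over.homMk I.subschemeι rfl
  have hv : IsClosedImmersion v.left := inferInstanceAs (IsClosedImmersion I.subschemeι)
  have : Mono v := mono_of_left v
  obtain ⟨l, hl⟩ := (hI v).2 ((comap_subschemeι_eq_bot_iff I I).2 le_rfl)
  refine ⟨_, l, v, isPullback_of_points hl fun T a b hab => ?_, hv⟩
  obtain ⟨b, rfl⟩ := exists_map_eq b
  obtain ⟨m, hm⟩ := (exists_lift_iff I b.left).2 ((hI b).1 ⟨a, hab⟩)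
  let m' : T ⟶ Over.mk (I.subschemeι ≫ U.hom) := Over.homMk m (by
    show m ≫ I.subschemeι ≫ U.hom = T.hom
    rw [reassoc_of% hm, Over.w b])
  have hm' : m' ≫ v = b := Over.OverMorphism.ext hm
  refine ⟨(yon S).map m', ⟨?_, by rw [← Functor.map_comp, hm']⟩, fun c hc => ?_⟩
  · rw [← cancel_mono i, Category.assoc, hl, ← Functor.map_comp_assoc, hm', hab]
  · obtain ⟨c, rfl⟩ := exists_map_eq c
    refine congrArg _ ((cancel_mono v).1 ((yon S).map_injective ?_))
    rw [hm', Functor.map_comp]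
    exact hc.2

/-- limits of closed immersions are closed immersions -/
theorem repWith_closed_lim {I : Type u} [SmallCategory I] {DX DY : I ⥤ Sp S} (τ : DX ⟶ DY)
    (hτ : ∀ i, RepWith @IsClosedImmersion (τ.app i)) (cX : Cone DX) (hcX : IsLimit cX) (cY : Cone DY)
    (hcY : IsLimit cY) (g : cX.pt ⟶ cY.pt) (hg : ∀ i, g ≫ cY.π.app i = cX.π.app i ≫ τ.app i) :
    RepWith @IsClosedImmersion g := by
  have : ∀ i, Mono (τ.app i) := fun i => mono_of_closed (hτ i)
  have : Mono g := ⟨fun a b e => hcX.hom_ext fun i => (cancel_mono (τ.app i)).1 (by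
    rw [Category.assoc, Category.assoc, ← hg, reassoc_of% e])⟩
  refine repWith_closed_of_pullIdeal fun U φ => ?_
  choose J hJ using fun i => exists_pullIdeal (hτ i) (φ ≫ cY.π.app i)
  refine ⟨⨆ i, J i, fun T α => ?_⟩
  rw [show (⨆ i, J i).comap α.left = ⨆ i, (J i).comap α.left from
    (Scheme.IdealSheafData.map_gc α.left).l_iSup, iSup_eq_bot]
  refine ⟨fun ⟨l, hl⟩ i => (hJ i α).1 ⟨l ≫ cX.π.app i, by rw [Category.assoc, ← hg, reassoc_of% hl]⟩, fun h => ?_⟩
  choose l hl using fun i => (hJ i α).2 (h i)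
  let s : Cone DX := Cone.mk ((yon S).obj T)
    { app := l
      naturality := fun i j f => by
        show 𝟙 _ ≫ l j = l i ≫ DX.map f
        rw [Category.id_comp, ← cancel_mono (τ.app j), Category.assoc, τ.naturality f, reassoc_of% (hl i), hl,
          cY.w f] }
  exact ⟨hcX.lift s, hcY.hom_ext fun i => by
    rw [Category.assoc, hg, hcX.fac_assoc s i, Category.assoc]; exact hl i⟩

end Groth.Agent.SchImg
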