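import Groth.Agent.SchImg.ClosedSub

/-!
# Scheme theoretic images of quasi-compact morphisms are kernels on every flat chart
-/

set_option autoImplicit false

universe u

open CategoryTheory CategoryTheory.Limits AlgebraicGeometry

set_option backward.isDefEq.respectTransparency false

namespace Groth.Agent.SchImg

open _root_.AlgSp Groth.Agent.AlgSpLib

variable {S : Scheme.{u}} {X Y Z : Sp S}

theorem isAlgSpace_of_closed {i : Z ⟶ Y} (hY : IsAlgSpace Y) (hi : RepWith @IsClosedImmersion i) :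
    IsAlgSpace Z :=
  isAlgSpace_of_repBySp (Representable.repBySp hi.1) hY

/-- pull ideals reverse factorisations -/
theorem IsPullIdeal.le_of_factor {Z' : Sp S} {i : Z ⟶ Y} {i' : Z' ⟶ Y} {U : Over S} {φ : (yon S).obj U ⟶ Y}
    {I I' : U.left.IdealSheafData} (h : IsPullIdeal i φ I) (h' : IsPullIdeal i' φ I') (k : Z ⟶ Z')
    (hk : k ≫ i' = i) : I' ≤ I := by
  let T : Over S := Over.mk (I.subschemeι ≫ U.hom)
  let α : T ⟶ U := Over.homMk I.subschemeι rfl
  obtain ⟨l, hl⟩ := (h α).2 ((comap_subschemeι_eq_bot_iff I I).2 le_rfl)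
  exact (comap_subschemeι_eq_bot_iff I' I).1 ((h' α).1 ⟨l ≫ k, by rw [Category.assoc, hk, hl]⟩)

theorem IsPullIdeal.le_kerIdeal_self {i : Z ⟶ Y} {U : Over S} {φ : (yon S).obj U ⟶ Y}
    {I : U.left.IdealSheafData} (h : IsPullIdeal i φ I) : I ≤ kerIdeal i φ :=
  h.le_kerIdeal (𝟙 Z) (Category.id_comp i)

/-- a closed subspace cut out by the kernel on an atlas is the image -/
theorem isSchImage_of_kerIdeal {f : X ⟶ Y} (hX : IsAlgSpace X) (hY : IsAlgSpace Y) {i : Z ⟶ Y}
    (hi : RepWith @IsClosedImmersion i) {U : Over S} {π : (yon S).obj U ⟶ Y} (hπ : RepWith @Etale π)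
    (hπs : RepWith @Surjective π) (hI : IsPullIdeal i π (kerIdeal f π)) : IsSchImage f i := by
  refine ⟨hi, exists_factor_of_le hi hX hY hπ hπs hI le_rfl, fun Z' i' hZ' hi' ⟨f'', hf''⟩ => ?_⟩
  obtain ⟨I', hI'⟩ := exists_pullIdeal hi' π
  exact exists_factor_of_le hi' (isAlgSpace_of_closed hY hi) hY hπ hπs hI'
    ((hI'.le_kerIdeal f'' hf'').trans hI.le_kerIdeal_self)

theorem kerIdeal_invariant {f : X ⟶ Y} (hX : IsAlgSpace X) (hY : IsAlgSpace Y) (hf : IsQuasiCompactMor f)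
    {U R : Over S} {π : (yon S).obj U ⟶ Y} (hπ : RepWith @Etale π) {t s : R ⟶ U}
    (sqR : IsPullback ((yon S).map t) ((yon S).map s) π π) :
    (kerIdeal f π).comap t.left = (kerIdeal f π).comap s.left := by
  have : Etale t.left := (repWith_yon_iff t).1 (repWith_baseChange sqR.flip hπ)
  have : Etale s.left := (repWith_yon_iff s).1 (repWith_baseChange sqR hπ)
  rw [← kerIdeal_comap_of_flat hX hY hf π t, ← kerIdeal_comap_of_flat hX hY hf π s, sqR.w]

theorem pullIdeal_eq_kerIdeal_atlas {f : X ⟶ Y} (hX : IsAlgSpace X) (hY : IsAlgSpace Y)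
    (hf : IsQuasiCompactMor f) {i : Z ⟶ Y} (h : IsSchImage f i) {U : Over S} {π : (yon S).obj U ⟶ Y}
    (hπ : RepWith @Etale π) (hπs : RepWith @Surjective π) : IsPullIdeal i π (kerIdeal f π) := by
  obtain ⟨R, t, s, sqR⟩ := exists_pullback hY.diag π π
  obtain ⟨Z₁, i₁, hZ₁, hi₁, hI₁⟩ := exists_closedSub hY hπ hπs sqR _ (kerIdeal_invariant hX hY hf hπ sqR)
  obtain ⟨I, hI⟩ := exists_pullIdeal h.1 π
  obtain ⟨f', hf'⟩ := h.2.1
  obtain ⟨k, hk⟩ := h.2.2 i₁ hZ₁ hi₁ (exists_factor_of_le hi₁ hX hY hπ hπs hI₁ le_rfl)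
  rwa [show kerIdeal f π = I from le_antisymm (hI.le_of_factor hI₁ k hk) (hI.le_kerIdeal f' hf')]

/-- the image of a quasi-compact morphism is the kernel on every flat chart -/
theorem pullIdeal_eq_kerIdeal {f : X ⟶ Y} (hX : IsAlgSpace X) (hY : IsAlgSpace Y)
    (hf : IsQuasiCompactMor f) {i : Z ⟶ Y} (h : IsSchImage f i) {U : Over S} (φ : (yon S).obj U ⟶ Y)
    (hφ : LocP @Flat φ) : IsPullIdeal i φ (kerIdeal f φ) := by
  obtain ⟨U₀, π, hπ, hπs⟩ := hY.atlas
  obtain ⟨V, e, β, sq⟩ := exists_pullback hY.diag φ π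
  have he : RepWith @Etale ((yon S).map e) := repWith_baseChange sq.flip hπ
  have : Etale e.left := (repWith_yon_iff e).1 he
  have : Surjective e.left := (repWith_yon_iff e).1 (repWith_baseChange sq.flip hπs)
  have : Flat β.left := hφ ((yon S).map e) π β he hπ sq.w
  obtain ⟨I, hI⟩ := exists_pullIdeal h.1 φ
  have h2 := (pullIdeal_eq_kerIdeal_atlas hX hY hf h hπ hπs).comap β
  rw [← sq.w] at h2
  have := (hI.comap e).unique h2
  rw [← kerIdeal_comap_of_flat hX hY hf π β, ← sq.w, kerIdeal_comap_of_flat hX hY hf φ e] at this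
  rwa [← eq_of_comap_eq e.left this]

theorem locP_flat_of_etale {U : Over S} (hY : IsAlgSpace Y) {φ : (yon S).obj U ⟶ Y} (hφ : RepWith @Etale φ) :
    LocP @Flat φ :=
  (locP_iff_repWith etST_flat hY hφ.1).2 (repWith_mono (fun _ _ r hr => by
    have : Etale r := hr
    infer_instance) hφ)

end Groth.Agent.SchImg
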