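import Groth.Agent.SchImg.ImmImage
import Groth.Agent.SchImg.Reduced
import Groth.Agent.AlgSpLib.FpqcProps
import Groth.Agent.AlgSpLib.Space
import Mathlib.AlgebraicGeometry.AffineTransitionLimit
import Mathlib.Algebra.Category.Ring.FilteredColimits
import Mathlib.CategoryTheory.Limits.ConcreteCategory.Basic

/-!
# Cofiltered limits of algebraic spaces with affine transition maps
-/

set_option autoImplicit false

universe u

open CategoryTheory CategoryTheory.Limits AlgebraicGeometry Opposite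

set_option backward.isDefEq.respectTransparency false

namespace Groth.Agent.SchImg

open _root_.AlgSp Groth.Agent.AlgSpLib

variable {S : Scheme.{u}}

theorem isReduced_colimit {J : Type u} [SmallCategory J] [IsFiltered J] (F : J ⥤ CommRingCat.{u})
    {c : Cocone F} (hc : IsColimit c) (h : ∀ j, _root_.IsReduced (F.obj j)) : _root_.IsReduced c.pt := by
  refine ⟨fun x ⟨n, hn⟩ => ?_⟩
  obtain ⟨j, y, rfl⟩ := Concrete.isColimit_exists_rep F hc x
  have h0 : c.ι.app j (y ^ n) = c.ι.app j 0 := by rw [map_pow, hn, map_zero]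
  obtain ⟨k, f, g, e⟩ := Concrete.isColimit_exists_of_rep_eq F hc (y ^ n) 0 h0
  rw [map_pow, map_zero] at e
  have := h k
  have hy : F.map f y = 0 := IsNilpotent.eq_zero ⟨n, e⟩
  rw [← c.w f, CommRingCat.comp_apply, hy, map_zero]

/-- a diagram of affine schemes has a limit -/
theorem hasLimit_affine {J : Type u} [SmallCategory J] [IsCofiltered J] (F : J ⥤ Scheme.{u})
    [∀ j, IsAffine (F.obj j)] :
    ∃ c : Cone F, Nonempty (IsLimit c) ∧ IsAffine c.pt ∧ ((∀ j, IsReduced (F.obj j)) → IsReduced c.pt) := by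
  let e : F ≅ (F ⋙ Scheme.Γ.rightOp) ⋙ Scheme.Spec :=
    NatIso.ofComponents (fun j => (F.obj j).isoSpec) (fun {j k} a => (Scheme.isoSpec_hom_naturality (F.map a)).symm)
  let cR := limit.cone (F ⋙ Scheme.Γ.rightOp)
  let cS := Scheme.Spec.mapCone cR
  have hcS : IsLimit cS := isLimitOfPreserves Scheme.Spec (limit.isLimit _)
  refine ⟨(Cone.postcompose e.inv).obj cS, ⟨(IsLimit.postcomposeInvEquiv e cS).symm hcS⟩, isAffine_Spec cR.pt.unop,
    fun h => ?_⟩
  have : _root_.IsReduced (cR.pt.unop : CommRingCat.{u}) :=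
    isReduced_colimit _ (isColimitCoconeLeftOpOfCone _ (limit.isLimit (F ⋙ Scheme.Γ.rightOp))) fun j =>
      have := h j.unop
      inferInstanceAs (_root_.IsReduced Γ(F.obj j.unop, ⊤))
  exact inferInstanceAs (IsReduced (Spec cR.pt.unop))

/-- the base change tower of an affine chart -/
theorem exists_lim_square {I : Type u} [SmallCategory I] [IsCofiltered I] (D : I ⥤ Sp S)
    (hDa : ∀ (i j : I) (φ : i ⟶ j), RepWith @IsAffineHom (D.map φ)) (c : Cone D) (hc : IsLimit c) (i₀ : I)
    {V : Over S} [IsAffine V.left] (g : (yon S).obj V ⟶ D.obj i₀) :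
    ∃ (W : Over S) (v : W ⟶ V) (z : (yon S).obj W ⟶ c.pt),
      IsAffine W.left ∧ IsPullback z ((yon S).map v) (c.π.app i₀) g ∧
        ((∀ (j : Over i₀) (W' : Over S) (z' : (yon S).obj W' ⟶ D.obj j.left) (v' : W' ⟶ V),
          IsPullback z' ((yon S).map v') (D.map j.hom) g → IsReduced W'.left) → IsReduced W.left) ∧
        ∃ (G : Over i₀ ⥤ Over S) (zz : ∀ j : Over i₀, (yon S).obj (G.obj j) ⟶ D.obj j.left)
          (vv : ∀ j : Over i₀, G.obj j ⟶ V) (L : Cone (G ⋙ Over.forget S)) (pp : ∀ j : Over i₀, W ⟶ G.obj j)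
          (e : L.pt = W.left), Nonempty (IsLimit L) ∧ (∀ j, IsAffine (G.obj j).left) ∧
            (∀ j, (pp j).left = eqToHom e.symm ≫ L.π.app j) ∧
            (∀ j, IsPullback (zz j) ((yon S).map (vv j)) (D.map j.hom) g) ∧
            (∀ {j k : Over i₀} (a : j ⟶ k), (yon S).map (G.map a) ≫ zz k = zz j ≫ D.map a.left) ∧
            (∀ j, (yon S).map (pp j) ≫ zz j = z ≫ c.π.app j.left) ∧
            (∀ {j k : Over i₀} (a : j ⟶ k), G.map a ≫ vv k = vv j) ∧ ∀ j, pp j ≫ vv j = v := by
  choose W z v sq hv using fun j : Over i₀ => exists_repWith (hDa j.left i₀ j.hom) g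
  have hW : ∀ j, IsAffine (W j).left := fun j => by
    have : IsAffineHom (v j).left := hv j
    exact isAffine_of_isAffineHom (v j).left
  have hm : ∀ {j k : Over i₀} (a : j ⟶ k), ∃ m : W j ⟶ W k,
      (yon S).map m ≫ z k = z j ≫ D.map a.left ∧ m ≫ v k = v j := by
    intro j k a
    have hw : (z j ≫ D.map a.left) ≫ D.map k.hom = (yon S).map (v j) ≫ g := by
      rw [Category.assoc, ← D.map_comp, Over.w a, (sq j).w]
    obtain ⟨m, hm⟩ := exists_map_eq ((sq k).lift _ _ hw)
    exact ⟨m, by rw [hm, (sq k).lift_fst], (yon S).map_injective (by rw [Functor.map_comp, hm, (sq k).lift_snd])⟩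
  choose m hm1 hm2 using @hm
  have hext : ∀ {T : Over S} {k : Over i₀} (p q : T ⟶ W k), (yon S).map p ≫ z k = (yon S).map q ≫ z k →
      p ≫ v k = q ≫ v k → p = q := fun p q h1 h2 =>
    (yon S).map_injective ((sq _).hom_ext h1 (by rw [← Functor.map_comp, ← Functor.map_comp, h2]))
  let G : Over i₀ ⥤ Over S :=
    { obj := W
      map := m
      map_id := fun j => hext _ _ (by simp [hm1]) (by simp [hm2])
      map_comp := fun a b => hext _ _
        (by rw [hm1, Functor.map_comp, Category.assoc, hm1, reassoc_of% (hm1 a), Over.comp_left, D.map_comp])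
        (by rw [hm2, Category.assoc, hm2, hm2]) }
  have : ∀ j, IsAffine ((G ⋙ Over.forget S).obj j) := hW
  obtain ⟨L, ⟨hL⟩, hLa, hLr⟩ := hasLimit_affine (G ⋙ Over.forget S)
  let t : Over i₀ := Over.mk (𝟙 i₀)
  let P : Over S := Over.mk (L.π.app t ≫ (W t).hom)
  have hπ : ∀ j : Over i₀, L.π.app j ≫ (W j).hom = P.hom := fun j => by
    rw [← Over.w (m (Over.homMk j.hom : j ⟶ t))]
    exact (Category.assoc _ _ _).symm.trans (congrArg (· ≫ (W t).hom) (L.w (Over.homMk j.hom : j ⟶ t)))
  let p : ∀ j : Over i₀, P ⟶ W j := fun j => Over.homMk (L.π.app j) (hπ j)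
  have hp : ∀ {j k : Over i₀} (a : j ⟶ k), p j ≫ m a = p k := fun {j k} a => Over.OverMorphism.ext (L.w a)
  let hc' := (Functor.Initial.isLimitWhiskerEquiv (Over.forget i₀) c).symm hc
  let c₂ : Cone (Over.forget i₀ ⋙ D) := Cone.mk ((yon S).obj P)
    { app := fun j => (yon S).map (p j) ≫ z j
      naturality := fun j k a => by
        show 𝟙 _ ≫ (yon S).map (p k) ≫ z k = ((yon S).map (p j) ≫ z j) ≫ D.map a.left
        rw [Category.id_comp, ← hp a, Functor.map_comp, Category.assoc, Category.assoc, hm1] }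
  have hpt : ∀ j : Over i₀, p j ≫ v j = p t ≫ v t := fun j => by
    rw [← hp (Over.homMk j.hom : j ⟶ t), Category.assoc, hm2]
  have hfac : ∀ j : Over i₀, hc'.lift c₂ ≫ c.π.app j.left = (yon S).map (p j) ≫ z j := fun j => hc'.fac c₂ j
  refine ⟨P, p t ≫ v t, hc'.lift c₂, hLa, isPullback_of_points ?_ fun T a b hab => ?_,
    fun h => hLr fun j => h j _ _ _ (sq j),
    G, z, v, L, p, rfl, ⟨hL⟩, hW, fun j => (Category.id_comp _).symm, sq, fun a => hm1 a, fun j => (hfac j).symm,
    fun a => hm2 a, hpt⟩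
  · rw [show c.π.app i₀ = c.π.app t.left from rfl, hfac t, Functor.map_comp, Category.assoc,
      ← (sq t).w, show D.map t.hom = 𝟙 _ from D.map_id i₀, Category.comp_id]
  · obtain ⟨b, rfl⟩ := exists_map_eq b
    have hl : ∀ j : Over i₀, ∃ l : T ⟶ W j, (yon S).map l ≫ z j = a ≫ c.π.app j.left ∧ l ≫ v j = b := fun j => by
      have hw : (a ≫ c.π.app j.left) ≫ D.map j.hom = (yon S).map b ≫ g := by rw [Category.assoc, c.w j.hom, hab]
      obtain ⟨l, hl⟩ := exists_map_eq ((sq j).lift _ _ hw)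
      exact ⟨l, by rw [hl, (sq j).lift_fst], (yon S).map_injective (by rw [Functor.map_comp, hl, (sq j).lift_snd])⟩
    choose l hl1 hl2 using hl
    let cT : Cone (G ⋙ Over.forget S) := Cone.mk T.left
      { app := fun j => (l j).left
        naturality := fun j k f => by
          show 𝟙 _ ≫ (l k).left = (l j).left ≫ (m f).left
          rw [Category.id_comp, ← Over.comp_left]
          exact congrArg (fun q : T ⟶ W k => q.left) (hext (l k) (l j ≫ m f)
            (by rw [hl1, Functor.map_comp, Category.assoc, hm1, reassoc_of% (hl1 j), c.w f.left])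
            (by rw [hl2, Category.assoc, hm2, hl2])) }
    let q : T ⟶ P := Over.homMk (hL.lift cT) (by
      show hL.lift cT ≫ L.π.app t ≫ (W t).hom = T.hom
      rw [hL.fac_assoc]
      exact Over.w (l t))
    have hq : ∀ j, q ≫ p j = l j := fun j => Over.OverMorphism.ext (hL.fac cT j)
    refine ⟨(yon S).map q, ⟨hc'.hom_ext fun j => ?_, by rw [← Functor.map_comp, reassoc_of% (hq t), hl2]⟩,
      fun r hr => ?_⟩
    · show ((yon S).map q ≫ hc'.lift c₂) ≫ c.π.app j.left = a ≫ c.π.app j.left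
      rw [Category.assoc, hfac, ← Functor.map_comp_assoc, hq, hl1]
    · obtain ⟨r, rfl⟩ := exists_map_eq r
      refine congrArg _ (Over.OverMorphism.ext (hL.hom_ext fun j => ?_))
      refine Eq.trans ?_ (hL.fac cT j).symm
      refine congrArg (fun k : T ⟶ W j => k.left) (hext (r ≫ p j) (l j) ?_ ?_)
      · rw [hl1, Functor.map_comp, Category.assoc, ← hfac, ← Category.assoc, hr.1]
      · rw [hl2, Category.assoc, hpt j]
        exact (yon S).map_injective (by rw [Functor.map_comp]; exact hr.2)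

theorem repWith_affine_lim {I : Type u} [SmallCategory I] [IsCofiltered I] (D : I ⥤ Sp S)
    (hDa : ∀ (i j : I) (φ : i ⟶ j), IsAffineMor (D.map φ)) (c : Cone D) (hc : IsLimit c) (i₀ : I) :
    IsAffineMor (c.π.app i₀) := fun V hV g => by
  have : IsAffine V.left := hV
  obtain ⟨W, v, z, hW, sq, -, -⟩ := exists_lim_square D (fun i j φ => (isAffineMor_iff_repWith _).1 (hDa i j φ)) c hc i₀ g
  exact ⟨W, v, z, sq, hW⟩

theorem isAlgSpace_lim {I : Type u} [SmallCategory I] [IsCofiltered I] (D : I ⥤ Sp S)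
    (hD : ∀ i, IsAlgSpace (D.obj i)) (hDa : ∀ (i j : I) (φ : i ⟶ j), IsAffineMor (D.map φ))
    (c : Cone D) (hc : IsLimit c) : IsAlgSpace c.pt := by
  obtain ⟨i₀⟩ := IsCofiltered.nonempty (C := I)
  exact isAlgSpace_of_repBySp
    (Representable.repBySp ((isAffineMor_iff_repWith _).1 (repWith_affine_lim D hDa c hc i₀)).1) (hD i₀)

theorem isReducedSp_lim {I : Type u} [SmallCategory I] [IsCofiltered I] (D : I ⥤ Sp S)
    (hD : ∀ i, IsAlgSpace (D.obj i)) (hDa : ∀ (i j : I) (φ : i ⟶ j), IsAffineMor (D.map φ))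
    (c : Cone D) (hc : IsLimit c) (hred : ∀ i, IsReducedSp (D.obj i)) : IsReducedSp c.pt := by
  obtain ⟨i₀⟩ := IsCofiltered.nonempty (C := I)
  obtain ⟨U, π, hπ, hπs⟩ := (hD i₀).atlas
  have hc₀ := (isAffineMor_iff_repWith _).1 (repWith_affine_lim D hDa c hc i₀)
  obtain ⟨W, z, v, sq, -⟩ := exists_repWith hc₀ π
  refine ⟨W, z, repWith_baseChange sq.flip hπ, repWith_baseChange sq.flip hπs, ?_⟩
  have : ∀ w : ↥W.left, _root_.IsReduced (W.left.presheaf.stalk w) := fun w => by
    obtain ⟨O, hO, hwO, -⟩ := exists_isAffineOpen_mem_and_subset (TopologicalSpace.Opens.mem_top (v.left w))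
    let V : Over S := Over.mk (O.ι ≫ U.hom)
    let j : V ⟶ U := Over.homMk O.ι rfl
    have : IsAffine V.left := hO
    have hg : RepWith @Etale ((yon S).map j ≫ π) :=
      repWith_comp ((repWith_yon_iff j).2 (inferInstanceAs (Etale O.ι))) hπ
    obtain ⟨W', v', z', -, sq', hr, -⟩ :=
      exists_lim_square D (fun i k φ => (isAffineMor_iff_repWith _).1 (hDa i k φ)) c hc i₀ ((yon S).map j ≫ π)
    have : IsReduced W'.left := hr fun k W'' z'' v'' sq'' =>
      isReduced_of_reducedSp (hD k.left) (hred k.left) (repWith_baseChange sq''.flip hg)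
    obtain ⟨m, hm⟩ := exists_map_eq (sq.lift z' ((yon S).map v' ≫ (yon S).map j) (by rw [sq'.w, Category.assoc]))
    have hm2 : m ≫ v = v' ≫ j := (yon S).map_injective (by rw [Functor.map_comp, Functor.map_comp, hm, sq.lift_snd])
    have sqo : IsPullback ((yon S).map m) ((yon S).map v') ((yon S).map v) ((yon S).map j) :=
      IsPullback.of_right (by rw [hm, sq.lift_fst]; exact sq') (by rw [← Functor.map_comp, hm2, Functor.map_comp]) sq
    have sqs := isPullback_yon_iff.1 sqo
    have : IsOpenImmersion m.left := MorphismProperty.of_isPullback sqs.flip (inferInstanceAs (IsOpenImmersion O.ι))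
    obtain ⟨w', hw', -⟩ := Scheme.exists_preimage_of_isPullback sqs w (⟨v.left w, hwO⟩ : (O : Scheme.{u})) rfl
    subst hw'
    exact (isReduced_stalk_iff_of_smooth m.left w').1 inferInstance
  exact isReduced_of_isReduced_stalk W.left

end Groth.Agent.SchImg
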