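import Groth.Prelude.Def_CurvBase
import Mathlib.AlgebraicGeometry.Morphisms.Affine

/-!
# The complement of a locally principal closed subscheme is affine over the scheme
-/

universe u

open CategoryTheory CategoryTheory.Limits AlgebraicGeometry TopologicalSpace

namespace Groth.Agent.SchImg

theorem isAffineHom_compl_of_isLocPrincipal {S : Scheme.{u}} (D : S.IdealSheafData) (hD : Curv2.IsLocPrincipal D) :
    IsAffineHom (Scheme.Opens.ι (X := S) D.support.compl) := by
  classical
  let C : S.Opens := D.support.compl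
  have key : ∀ x : S, ∃ U : S.affineOpens, x ∈ U.1 ∧ IsAffineOpen (C ⊓ U.1) := by
    intro x
    by_cases hx : x ∈ D.support
    · obtain ⟨U, hxU, f, hf⟩ := hD x hx
      refine ⟨U, hxU, ?_⟩
      convert U.2.basicOpen f using 1
      ext1
      ext y
      constructor
      · rintro ⟨hy, hyU⟩
        by_contra hyf
        refine hy ?_
        show y ∈ (D.support : Set S)
        rw [SetLike.mem_coe, D.mem_support_iff_of_mem hyU, hf, Scheme.zeroLocus_span, Scheme.mem_zeroLocus_iff]
        rintro _ rfl
        exact hyf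
      · intro hyf
        have hyU : y ∈ U.1 := S.basicOpen_le f hyf
        refine ⟨fun hy => ?_, hyU⟩
        have hy' : y ∈ D.support := hy
        rw [D.mem_support_iff_of_mem hyU, hf, Scheme.zeroLocus_span, Scheme.mem_zeroLocus_iff] at hy'
        exact hy' f rfl hyf
    · obtain ⟨U, hU, hxU, hle⟩ := exists_isAffineOpen_mem_and_subset (X := S) (U := C) (show x ∈ C from hx)
      exact ⟨⟨U, hU⟩, hxU, by rwa [inf_eq_right.2 (show U ≤ C from hle)]⟩
  choose W hxW hW using key
  refine HasAffineProperty.of_iSup_eq_top (P := @IsAffineHom) W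
    (eq_top_iff.2 fun x _ => TopologicalSpace.Opens.mem_iSup.2 ⟨x, hxW x⟩) fun x => ?_
  show IsAffineOpen (C.ι ⁻¹ᵁ (W x).1)
  rw [← C.ι.isAffineOpen_iff_of_isOpenImmersion, C.ι.image_preimage_eq_opensRange_inf, Scheme.Opens.opensRange_ι]
  exact hW x

end Groth.Agent.SchImg
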