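import Groth.Agent.SchImg.QcImage
import Groth.Agent.SpQS.Basic
import Groth.Agent.ValLib.DvrFrom
import Groth.Agent.AlgSpLib.DiagProp

/-!
# Scheme theoretic image of a section over an open
-/

set_option autoImplicit false

universe u

open CategoryTheory CategoryTheory.Limits AlgebraicGeometry

set_option backward.isDefEq.respectTransparency false

namespace Groth.Agent.SchImg

open _root_.AlgSp Groth.Agent.AlgSpLib

variable {S : Scheme.{u}} {X Y Z : Sp S}

/-- flat base change of the image of a quasi-compact morphism -/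
theorem isSchImage_baseChange_flat {X' Y' Z' : Sp S} (hX : IsAlgSpace X) (hY : IsAlgSpace Y)
    (hY' : IsAlgSpace Y') {f : X ⟶ Y} (hf : IsQuasiCompactMor f) {i : Z ⟶ Y} (h : IsSchImage f i)
    {u : Y' ⟶ Y} (hu : LocP @Flat u) {v : X' ⟶ X} {f' : X' ⟶ Y'} (sqX : IsPullback v f' f u)
    {w : Z' ⟶ Z} {i' : Z' ⟶ Y'} (sqZ : IsPullback w i' i u) : IsSchImage f' i' := by
  obtain ⟨U, π, hπ, hπs⟩ := hY'.atlas
  have hI := (pullIdeal_eq_kerIdeal hX hY hf h (π ≫ u)
    (locP_comp_isEtaleMor (isEtaleMor_of_repWith' hπ) hu)).of_isPullback sqZ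
  rw [← kerIdeal_of_isPullback sqX π] at hI
  exact isSchImage_of_kerIdeal (isAlgSpace_of_isPullback_space hY hX hY' sqX) hY' (repWith_baseChange sqZ h.1)
    hπ hπs hI

theorem isSchImage_self {i : Z ⟶ Y} (hi : RepWith @IsClosedImmersion i) : IsSchImage i i :=
  ⟨hi, ⟨𝟙 Z, Category.id_comp i⟩, fun _ _ _ _ h => h⟩

/-- the image of a section over a quasi-compact open maps isomorphically over it -/
theorem isIso_image_section {V Y' P : Sp S} (hX : IsAlgSpace X) (hY : IsAlgSpace Y) (hV : IsAlgSpace V)
    {f : X ⟶ Y} {j : V ⟶ Y} (hj : RepWith @IsOpenImmersion j) (hjq : IsQuasiCompactMor j)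
    (hf : IsSeparatedMor f) {s : V ⟶ X} (hs : s ≫ f = j) {c : Y' ⟶ X} (hc : IsSchImage s c)
    {fst : P ⟶ Y'} {snd : P ⟶ V} (sq : IsPullback fst snd (c ≫ f) j) : IsIso snd := by
  have hsq : IsQuasiCompactMor s :=
    SpQS.isQuasiCompactMor_cancel hV hX hY s f (hs.symm ▸ hjq) (ValLib.isQuasiSeparatedMor_of_separated f hf)
  have sqV := IsPullback.of_hasPullback f j
  let pX := pullback.fst f j
  let pV := pullback.snd f j
  have hXV : IsAlgSpace (pullback f j) := isAlgSpace_of_isPullback_space hY hX hV sqV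
  have hpX : RepWith @IsOpenImmersion pX := repWith_baseChange sqV.flip hj
  have : Mono j := mono_of_repWith_immersion (repWith_mono (fun _ _ r hr => by
    have : IsOpenImmersion r := hr
    infer_instance) hj)
  have : Mono pX := sqV.mono_fst_of_mono
  let sV : V ⟶ pullback f j := pullback.lift s (𝟙 V) (by rw [hs, Category.id_comp])
  have hsV : RepWith @IsClosedImmersion sV :=
    repWith_section (f := pV) (pullback.lift_snd _ _ _) (isSeparatedMor_baseChange sqV hf)
  have sqS : IsPullback (𝟙 V) sV s pX :=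
    IsPullback.of_horiz_isIso_mono ⟨by rw [Category.id_comp]; exact (pullback.lift_fst _ _ _).symm⟩
  have sqC := IsPullback.of_hasPullback c pX
  have hflat : LocP @Flat pX := (locP_iff_repWith etST_flat hX hpX.1).2 (repWith_mono (fun _ _ r hr => by
    have : IsOpenImmersion r := hr
    infer_instance) hpX)
  have himg := isSchImage_baseChange_flat hV hX hXV hsq hc hflat sqS sqC
  have hself := isSchImage_self hsV
  have := mono_of_closed himg.1
  have := mono_of_closed hsV
  obtain ⟨k, hk⟩ := himg.2.2 sV hV hsV ⟨𝟙 V, Category.id_comp _⟩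
  obtain ⟨k', hk'⟩ := himg.2.1
  have : IsIso k := ⟨k', by rw [← cancel_mono (pullback.snd c pX), Category.assoc, hk', hk, Category.id_comp],
    by rw [← cancel_mono sV, Category.assoc, hk, hk', Category.id_comp]⟩
  have sqP : IsPullback (pullback.fst c pX) (pullback.snd c pX ≫ pV) (c ≫ f) j := sqC.paste_vert sqV
  have e : pullback.snd c pX ≫ pV = k := by
    rw [← hk, Category.assoc, show sV ≫ pV = 𝟙 V from pullback.lift_snd _ _ _, Category.comp_id]
  let θ := sq.isoIsPullback _ _ sqP
  rw [show snd = θ.hom ≫ k by rw [← e]; exact (IsPullback.isoIsPullback_hom_snd _ _ sq sqP).symm]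
  infer_instance

end Groth.Agent.SchImg
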