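import Groth.Agent.SchImg.CartierSub
import Groth.Agent.CMFlat.RegImm
import Groth.Agent.FlatDepth.CMTensor
import Groth.Agent.Purity.DepthPair
import Groth.Agent.S0320
import Mathlib.RingTheory.KrullDimension.Regular
import Mathlib.AlgebraicGeometry.Noetherian

/-!
# Serre conditions pass to effective Cartier divisors
-/

set_option autoImplicit false

universe u

open CategoryTheory CategoryTheory.Limits AlgebraicGeometry

set_option backward.isDefEq.respectTransparency false

namespace Groth.Agent.SchImg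

open _root_.AlgSp Groth.Agent.AlgSpLib IsLocalRing

theorem exists_eq_ringKrullDim_of_isLocalRing' (R : Type u) [CommRing R] [IsLocalRing R] [IsNoetherianRing R] :
    ∃ n : ℕ, ringKrullDim R = n := by
  have h1 : ringKrullDim R ≠ ⊤ := ringKrullDim_lt_top.ne
  have h2 : ringKrullDim R ≠ ⊥ := ringKrullDim_nonneg_of_nontrivial.trans_lt' (WithBot.bot_lt_coe _) |>.ne'
  obtain ⟨m, hm⟩ := WithBot.ne_bot_iff_exists.1 h2
  cases m with
  | top => exact absurd hm.symm h1
  | coe n => exact ⟨n, hm.symm⟩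

/-- the algebra -/
theorem skIneq_of_regular {R B : Type u} [CommRing R] [IsLocalRing R] [IsNoetherianRing R] [CommRing B]
    [IsLocalRing B] [IsNoetherianRing B] (g : R) (hg : g ∈ maximalIdeal R) (hreg : IsSMulRegular R g)
    (e : (R ⧸ Ideal.span {g}) ≃+* B) (k : ℕ)
    (h : min ((k : ℕ) : WithBot ℕ∞) (ringKrullDim R) ≤ ((LocCoh.depth R R : ℕ∞) : WithBot ℕ∞)) :
    min ((k - 1 : ℕ) : WithBot ℕ∞) (ringKrullDim B) ≤ ((LocCoh.depth B B : ℕ∞) : WithBot ℕ∞) := by
  have : Nontrivial (R ⧸ Ideal.span {g}) :=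
    Ideal.Quotient.nontrivial_iff.2 fun h0 => hg (Ideal.span_singleton_eq_top.1 h0)
  have : IsLocalRing (R ⧸ Ideal.span {g}) := IsLocalRing.of_surjective' _ Ideal.Quotient.mk_surjective
  have hsucc : LocCoh.depth B B + 1 = LocCoh.depth R R := by
    rw [Purity.depth_eq_of_ringEquiv e, FlatDepth.depth_quotient_ring]
    let l : (R ⧸ Ideal.span {g}) ≃ₗ[R] QuotSMulTop g R :=
      Submodule.quotEquivOfEq _ _ (by rw [← Submodule.ideal_span_singleton_smul, smul_eq_mul, Ideal.mul_top])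
    rw [LocCoh.depth, LocH.idealDepth_congr l]
    exact S0320.result R _ R (by simpa using (maximalIdeal.isMaximal R).ne_top) g hg hreg
  rw [← hsucc] at h
  rw [ringKrullDim_eq_of_ringEquiv e.symm] at *
  obtain ⟨n, hn⟩ := exists_eq_ringKrullDim_of_isLocalRing' (R ⧸ Ideal.span {g})
  have hR : ringKrullDim R = ((n + 1 : ℕ) : WithBot ℕ∞) := by
    rw [← ringKrullDim_quotient_span_singleton_succ_eq_ringKrullDim hreg hg, hn]
    rfl
  rw [hR] at h
  rw [hn]
  cases hd : LocCoh.depth B B with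
  | top => exact le_top
  | coe d =>
    rw [hd] at h
    have key : ∀ a b c : ℕ, (min (a : WithBot ℕ∞) b ≤ ((c : ℕ∞) : WithBot ℕ∞)) ↔ min a b ≤ c := fun a b c => by
      rw [min_le_iff, min_le_iff]
      norm_cast
    have h' : min k (n + 1) ≤ d + 1 := (key k (n + 1) (d + 1)).1 (by exact_mod_cast h)
    exact (key (k - 1) n d).2 (by omega)

variable {S : Scheme.{u}}

theorem skIneq_subscheme {X : Scheme.{u}} [IsLocallyNoetherian X] {I : X.IdealSheafData}
    (hI : BlowUp.IsEffCartierIdeal I) (k : ℕ) (v : I.subscheme)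
    (h : min ((k : ℕ) : WithBot ℕ∞) (ringKrullDim (X.presheaf.stalk (I.subschemeι v))) ≤
      ((LocCoh.depth (X.presheaf.stalk (I.subschemeι v)) (X.presheaf.stalk (I.subschemeι v)) : ℕ∞) : WithBot ℕ∞)) :
    min ((k - 1 : ℕ) : WithBot ℕ∞) (ringKrullDim (I.subscheme.presheaf.stalk v)) ≤
      ((LocCoh.depth (I.subscheme.presheaf.stalk v) (I.subscheme.presheaf.stalk v) : ℕ∞) : WithBot ℕ∞) := by
  have : IsLocallyNoetherian I.subscheme := LocallyOfFiniteType.isLocallyNoetherian I.subschemeι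
  obtain ⟨U, hU, f, hf, he⟩ := hI (I.subschemeι v)
  let g := (X.presheaf.germ U.1 (I.subschemeι v) hU).hom f
  have hker : RingHom.ker (I.subschemeι.stalkMap v).hom = Ideal.span {g} := by
    rw [CMFlat.ker_stalkMap_eq I.subschemeι v U hU, ← Scheme.Hom.ker_apply, I.ker_subschemeι, he, Ideal.map_span,
      Set.image_singleton]
  refine skIneq_of_regular g (le_maximalIdeal (RingHom.ker_ne_top _) (hker.ge (Ideal.mem_span_singleton_self g))) ?_
    ((Ideal.quotEquivOfEq hker.symm).trans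
      (RingHom.quotientKerEquivOfSurjective (I.subschemeι.stalkMap_surjective v))) k h
  letI := (X.presheaf.germ U.1 (I.subschemeι v) hU).hom.toAlgebra
  haveI := U.2.isLocalization_stalk ⟨I.subschemeι v, hU⟩
  haveI : Module.Flat Γ(X, U.1) (X.presheaf.stalk (I.subschemeι v)) :=
    IsLocalization.flat _ (U.2.primeIdealOf ⟨I.subschemeι v, hU⟩).asIdeal.primeCompl
  have h0 : IsSMulRegular Γ(X, U.1) f := by
    rw [← isLeftRegular_iff]
    exact (isRegular_iff_mem_nonZeroDivisors.2 hf).left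
  exact h0.of_flat

theorem etaleLocally_sk_of_effCartierSub {X D : Sp S} (k : ℕ)
    (hX : EtaleLocally (fun U => IsLocallyNoetherian U ∧ ∀ x : ↥U,
        min ((k : ℕ) : WithBot ℕ∞) (ringKrullDim ↥(U.presheaf.stalk x)) ≤
          ((LocCoh.depth ↥(U.presheaf.stalk x) ↥(U.presheaf.stalk x) : ℕ∞) : WithBot ℕ∞)) X)
    (hXs : IsAlgSpace X) {i : D ⟶ X} (hD : IsEffCartierSub i) :
    EtaleLocally (fun V => IsLocallyNoetherian V ∧ ∀ v : ↥V,
        min ((k - 1 : ℕ) : WithBot ℕ∞) (ringKrullDim ↥(V.presheaf.stalk v)) ≤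
          ((LocCoh.depth ↥(V.presheaf.stalk v) ↥(V.presheaf.stalk v) : ℕ∞) : WithBot ℕ∞)) D := by
  obtain ⟨U, a, ha, has, hN, hk⟩ := hX
  obtain ⟨I, hI⟩ := exists_pullIdeal hD.1 a
  obtain ⟨fst, sq⟩ := exists_std_square hD.1 hI
  have hIc := cartier_of_effCartierSub hXs hD ha hI
  have : IsLocallyNoetherian U.left := hN
  refine ⟨_, fst, repWith_baseChange sq.flip ha, repWith_baseChange sq.flip has,
    LocallyOfFiniteType.isLocallyNoetherian I.subschemeι, fun v => skIneq_subscheme hIc k v (hk _)⟩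

end Groth.Agent.SchImg
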