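import Groth.Agent.SchImg.CartierSub
import Groth.Agent.S1662

/-!
# Base change of relative effective Cartier divisors
-/

set_option autoImplicit false

universe u

open CategoryTheory CategoryTheory.Limits AlgebraicGeometry

set_option backward.isDefEq.respectTransparency false

namespace Groth.Agent.SchImg

open _root_.AlgSp Groth.Agent.AlgSpLib Groth.Agent.BlowUpLib

variable {S : Scheme.{u}}

theorem effCartierSub_baseChange_of_flat {X Y D Y' X' D' : Sp S} (hX : IsAlgSpace X) (hY : IsAlgSpace Y)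
    (hY' : IsAlgSpace Y') {f : X ⟶ Y} {i : D ⟶ X} (hD : IsEffCartierSub i) (hflat : LocP @Flat (i ≫ f))
    {g : Y' ⟶ Y} {g' : X' ⟶ X} {f' : X' ⟶ Y'} (hX' : IsPullback g' f' f g)
    {k : D' ⟶ D} {i' : D' ⟶ X'} (hD' : IsPullback k i' i g') : IsEffCartierSub i' := by
  have hi' : RepWith @IsClosedImmersion i' := repWith_baseChange hD' hD.1
  obtain ⟨V, π, hπ, hπs⟩ := hY.atlas
  obtain ⟨U, a, h, hae, has, hh⟩ := exists_chart_lift hX hY f hπ hπs
  obtain ⟨I, hI⟩ := exists_pullIdeal hD.1 a
  obtain ⟨fD, sqD⟩ := exists_std_square hD.1 hI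
  have hIc := cartier_of_effCartierSub hX hD hae hI
  let j : Over.mk (I.subschemeι ≫ U.hom) ⟶ U := Over.homMk I.subschemeι rfl
  have hfl : Flat (I.subschemeι ≫ h.left) := hflat fD π (j ≫ h) (repWith_baseChange sqD.flip hae) hπ (by
    rw [reassoc_of% sqD.w, hh, Functor.map_comp_assoc])
  have sqQ := IsPullback.of_hasPullback g π
  have hQ := isAlgSpace_of_isPullback_space hY hY' (IsAlgSpace.yon_obj V) sqQ
  obtain ⟨V', c, hce, hcs⟩ := hQ.atlas
  obtain ⟨v, hv⟩ := exists_map_eq (c ≫ pullback.snd g π)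
  obtain ⟨U'', r, s, sqU⟩ := exists_pullback (IsAlgSpace.yon_obj V).diag ((yon S).map h) ((yon S).map v)
  have sqP := IsPullback.of_hasPullback a g'
  have big : IsPullback (pullback.fst a g') (pullback.snd a g' ≫ f') (a ≫ f) g := sqP.paste_vert hX'
  rw [hh] at big
  let l : pullback a g' ⟶ pullback g π := pullback.lift (pullback.snd a g' ≫ f') (pullback.fst a g' ≫ (yon S).map h)
    (by rw [Category.assoc, Category.assoc]; exact big.w.symm.trans (by simp [Category.assoc]))
  have sql : IsPullback (pullback.fst a g') l ((yon S).map h) (pullback.snd g π) :=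
    IsPullback.of_bot (by rw [pullback.lift_fst]; exact big) (pullback.lift_snd _ _ _).symm sqQ.flip
  obtain ⟨κ, hκ⟩ : ∃ κ, κ = sql.lift ((yon S).map r) ((yon S).map s ≫ c) (by
      rw [Category.assoc, ← hv, ← Functor.map_comp, ← Functor.map_comp]
      exact congrArg _ ((yon S).map_injective (by rw [Functor.map_comp, Functor.map_comp]; exact sqU.w))) := ⟨_, rfl⟩
  have hκ1 : κ ≫ pullback.fst a g' = (yon S).map r := by rw [hκ, sql.lift_fst]
  have hκ2 : κ ≫ l = (yon S).map s ≫ c := by rw [hκ, sql.lift_snd]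
  have sqκ : IsPullback κ ((yon S).map s) l c :=
    IsPullback.of_right (by rw [hκ1, ← hv]; exact sqU) hκ2 sql
  have hφe : RepWith @Etale (κ ≫ pullback.snd a g') :=
    repWith_comp (repWith_baseChange sqκ.flip hce) (repWith_baseChange sqP hae)
  have hφs : RepWith @Surjective (κ ≫ pullback.snd a g') :=
    repWith_comp (repWith_baseChange sqκ.flip hcs) (repWith_baseChange sqP has)
  have hφ : (κ ≫ pullback.snd a g') ≫ g' = (yon S).map r ≫ a := by
    rw [Category.assoc, ← pullback.condition, reassoc_of% hκ1]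
  have hJ0 := hI.comap r
  rw [← hφ] at hJ0
  have hJ := hJ0.of_isPullback hD'
  obtain ⟨fst, sq⟩ := exists_std_square hi' hJ
  refine ⟨hi', U'', _, _, fst, hφe, hφs, sq, ?_⟩
  have sqs : IsPullback r.left s.left h.left v.left := isPullback_yon_iff.1 sqU
  have hbase := S1662.result h.left I hIc v.left
  rw [show r.left = sqs.isoPullback.hom ≫ pullback.fst h.left v.left from sqs.isoPullback_hom_fst.symm,
    Scheme.IdealSheafData.comap_comp]
  exact cartier_comap_flat hbase _

end Groth.Agent.SchImg
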