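import Groth.Agent.BlowUpLib.Cartier
import Mathlib.AlgebraicGeometry.Morphisms.UniversallyOpen

/-!
# Effective Cartier ideals descend along flat covers
-/

set_option autoImplicit false

universe u

open CategoryTheory AlgebraicGeometry Limits TopologicalSpace

set_option backward.isDefEq.respectTransparency false

namespace Groth.Agent.SchImg

open Groth.Agent.BlowUpLib

theorem exists_generator_from {A B : Type u} [CommRing A] [CommRing B] (φ : A →+* B) (P : Ideal A) {f : B}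
    (hf : f ∈ nonZeroDivisors B) (h : P.map φ = Ideal.span {f}) (q : Ideal B) [q.IsPrime] :
    ∃ a ∈ P, ∃ c ∉ q, φ a = c * f := by
  by_contra hno
  push Not at hno
  have key : ∀ z ∈ P.map φ, ∃ d ∈ q, z = d * f := by
    intro z hz
    rw [Ideal.map] at hz
    induction hz using Submodule.span_induction with
    | mem z hz =>
      obtain ⟨a, ha, rfl⟩ := hz
      obtain ⟨d, hd⟩ := Ideal.mem_span_singleton'.1 (h ▸ Ideal.mem_map_of_mem φ ha)
      exact ⟨d, by_contra fun hdq => hno a ha d hdq hd.symm, hd.symm⟩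
    | zero => exact ⟨0, q.zero_mem, (zero_mul f).symm⟩
    | add z z' _ _ hz hz' =>
      obtain ⟨d, hd, rfl⟩ := hz
      obtain ⟨d', hd', rfl⟩ := hz'
      exact ⟨d + d', q.add_mem hd hd', (add_mul _ _ _).symm⟩
    | smul b z _ hz =>
      obtain ⟨d, hd, rfl⟩ := hz
      exact ⟨b * d, q.mul_mem_left b hd, by rw [smul_eq_mul, mul_assoc]⟩
  obtain ⟨d, hd, hd'⟩ := key f (h ▸ Ideal.mem_span_singleton_self f)
  exact Ideal.IsPrime.ne_top ‹_› ((Ideal.eq_top_iff_one q).2
    ((mul_cancel_right_mem_nonZeroDivisors hf).1 (hd'.symm.trans (one_mul f).symm) ▸ hd))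

variable {X Y : Scheme.{u}}

/-- effective Cartier descends along flat surjective open morphisms -/
theorem cartier_of_comap (c : X ⟶ Y) [Flat c] [Surjective c] (hopen : IsOpenMap c) {I : Y.IdealSheafData}
    (h : BlowUp.IsEffCartierIdeal (I.comap c)) : BlowUp.IsEffCartierIdeal I := fun y => by
  obtain ⟨x, rfl⟩ := c.surjective y
  obtain ⟨U, hU, hyU, -⟩ := exists_isAffineOpen_mem_and_subset (TopologicalSpace.Opens.mem_top (c x))
  obtain ⟨W, hxW, hWU, f, hf, he⟩ := exists_small_generator h (O := c ⁻¹ᵁ U) (x := x) hyU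
  let φ := (c.appLE U W.1 hWU).hom
  rw [FpqcDescent.ideal_comap_appLE I c ⟨U, hU⟩ W hWU] at he
  obtain ⟨a, ha, b, hb, hab⟩ := exists_generator_from φ _ hf he (W.2.primeIdealOf ⟨x, hxW⟩).asIdeal
  let W' : X.Opens := X.basicOpen b
  have hxW' : x ∈ W' := by
    have h1 : W.2.fromSpec (W.2.primeIdealOf ⟨x, hxW⟩) ∈ X.basicOpen b := by
      show W.2.primeIdealOf ⟨x, hxW⟩ ∈ W.2.fromSpec ⁻¹ᵁ X.basicOpen b
      rw [W.2.fromSpec_preimage_basicOpen]; exact hb
    rwa [IsAffineOpen.fromSpec_primeIdealOf] at h1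
  have hW'W : W' ≤ W.1 := X.basicOpen_le b
  obtain ⟨g, hgle, hgy⟩ := hU.exists_basicOpen_le (V := ⟨c '' (W' : Set X), hopen _ W'.2⟩)
    ⟨c x, ⟨x, hxW', rfl⟩⟩ hyU
  let U' : Y.Opens := Y.basicOpen g
  have hU' : IsAffineOpen U' := hU.basicOpen g
  let g' : Γ(X, W') := (c.appLE U W' (hW'W.trans hWU)).hom g
  let W'' : X.Opens := X.basicOpen g'
  have hW'' : IsAffineOpen W'' := (W.2.basicOpen b).basicOpen g'
  have hWeq : W'' = W' ⊓ c ⁻¹ᵁ U' := Scheme.basicOpen_appLE c W' U (hW'W.trans hWU) g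
  have hle : W'' ≤ c ⁻¹ᵁ U' := hWeq.le.trans inf_le_right
  let ψ := (c.appLE U' W'' hle).hom
  have hsurj : Function.Surjective (PrimeSpectrum.comap ψ) := fun q => by
    have hqU : hU'.fromSpec q ∈ U' := hU'.range_fromSpec.le ⟨q, rfl⟩
    obtain ⟨w, hw, hcw⟩ := hgle hqU
    have hw'' : w ∈ W'' := hWeq.ge ⟨hw, by show c w ∈ U'; rw [hcw]; exact hqU⟩
    obtain ⟨p, rfl⟩ : w ∈ Set.range hW''.fromSpec := hW''.range_fromSpec.symm ▸ hw''
    refine ⟨p, hU'.fromSpec.injective ?_⟩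
    rw [← hcw]
    exact congr($(hU'.SpecMap_appLE_fromSpec c hW'' hle).base p)
  have hflat : ψ.Flat := c.flat_appLE hU' hW'' hle
  let r : Γ(Y, U) →+* Γ(Y, U') := (Y.presheaf.map (homOfLE (Y.basicOpen_le g)).op).hom
  let s : Γ(X, W.1) →+* Γ(X, W'') := (X.presheaf.map (homOfLE ((X.basicOpen_le g').trans hW'W)).op).hom
  have hcomm : ψ.comp r = s.comp φ := congrArg CommRingCat.Hom.hom
    ((Scheme.Hom.map_appLE c hle (homOfLE (Y.basicOpen_le g)).op).trans
      (Scheme.Hom.appLE_map c hWU (homOfLE ((X.basicOpen_le g').trans hW'W)).op).symm)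
  have hsb : IsUnit (s b) := by
    have h1 : IsUnit ((X.presheaf.map (homOfLE hW'W).op).hom b) :=
      RingedSpace.isUnit_res_basicOpen X.toRingedSpace b
    have h2 := h1.map (X.presheaf.map (homOfLE (X.basicOpen_le g')).op).hom
    rw [← CommRingCat.comp_apply, ← Functor.map_comp] at h2
    exact h2
  have hP : (I.ideal ⟨U', hU'⟩) = (I.ideal ⟨U, hU⟩).map r :=
    (I.map_ideal (U := ⟨U', hU'⟩) (V := ⟨U, hU⟩) (Y.basicOpen_le g)).symm
  letI := ψ.toAlgebra
  have : Module.Flat Γ(Y, U') Γ(X, W'') := hflat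
  have : Module.FaithfullyFlat Γ(Y, U') Γ(X, W'') := Module.FaithfullyFlat.of_comap_surjective hsurj
  refine ⟨⟨U', hU'⟩, hgy, r a, ?_, ?_⟩
  · have hsf : s f ∈ nonZeroDivisors Γ(X, W'') :=
      mem_nonZeroDivisors_map_of_flat _ (flat_res W.2 hW'' ((X.basicOpen_le g').trans hW'W)) hf
    have hnz : algebraMap Γ(Y, U') Γ(X, W'') (r a) ∈ nonZeroDivisors Γ(X, W'') := by
      rw [show algebraMap Γ(Y, U') Γ(X, W'') (r a) = ψ (r a) from rfl, ← RingHom.comp_apply, hcomm,
        RingHom.comp_apply, hab, map_mul]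
      exact mul_mem hsb.mem_nonZeroDivisors hsf
    rw [mem_nonZeroDivisors_iff_right]
    intro z hz
    apply FaithfulSMul.algebraMap_injective Γ(Y, U') Γ(X, W'')
    rw [map_zero]
    refine mem_nonZeroDivisors_iff_right.1 hnz _ ?_
    rw [← map_mul, hz, map_zero]
  · rw [← Ideal.comap_map_eq_self_of_faithfullyFlat (B := Γ(X, W'')) (I.ideal ⟨U', hU'⟩),
      ← Ideal.comap_map_eq_self_of_faithfullyFlat (B := Γ(X, W'')) (Ideal.span {r a})]
    congr 1
    rw [hP, Ideal.map_map, Ideal.map_span, Set.image_singleton,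
      show algebraMap Γ(Y, U') Γ(X, W'') = ψ from rfl, ← RingHom.comp_apply ψ r, hcomm, ← Ideal.map_map, he,
      Ideal.map_span, Set.image_singleton, RingHom.comp_apply, hab, map_mul, Ideal.span_singleton_mul_left_unit hsb]

end Groth.Agent.SchImg
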