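import Groth.Agent.SchImg.CartierSub
import Groth.Agent.CartierDim.Basic
import Groth.Agent.SchImg.ValPoint
import Groth.Prelude.Def_Flat

/-!
# Local dimension of an effective Cartier divisor
-/

set_option autoImplicit false

universe u

open CategoryTheory CategoryTheory.Limits AlgebraicGeometry

set_option backward.isDefEq.respectTransparency false

namespace Groth.Agent.SchImg

open _root_.AlgSp Groth.Agent.AlgSpLib

variable {S : Scheme.{u}}

theorem localDim_lt_of_effCartierSub {X D : Sp S} (hX : IsAlgSpace X) {i : D ⟶ X} (hD : IsEffCartierSub i)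
    (x : Points D) (d : WithBot ℕ∞)
    (hd : HasAt (fun U u => FlatMor.localDim ↥U u = d) X (Points.map i x)) (hfin : d ≠ ⊤) :
    HasAt (fun V v => FlatMor.localDim ↥V v < d) D x := by
  obtain ⟨U, a, u, ha, hu, hdu⟩ := hd
  obtain ⟨I, hI⟩ := exists_pullIdeal hD.1 a
  obtain ⟨fst, sq⟩ := exists_std_square hD.1 hI
  have hIc := cartier_of_effCartierSub hX hD ha hI
  obtain ⟨w, hw⟩ : u ∈ Set.range I.subschemeι := by
    rw [I.range_subschemeι]
    exact (hI.mem_range_iff u).1 ⟨x, hu.symm⟩
  refine ⟨_, fst, w, repWith_baseChange sq.flip ha, ?_, ?_⟩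
  · have := mono_of_closed hD.1
    refine injective_map_of_mono (i := i) ?_
    rw [Points.map_ofPt, sq.w, ofPt_comp, ← hu]
    exact congrArg _ hw
  · obtain ⟨O, hO⟩ : d ∈ Set.range
        (fun O : {O : TopologicalSpace.Opens ↥U.left // u ∈ O} => topologicalKrullDim (O.1 : Set ↥U.left)) := by
      have : Nonempty {O : TopologicalSpace.Opens ↥U.left // u ∈ O} := ⟨⟨⊤, trivial⟩⟩
      rw [← hdu]
      exact csInf_mem (Set.range_nonempty _)
    have hwO : w ∈ I.subschemeι ⁻¹ᵁ O.1 := by
      show I.subschemeι w ∈ O.1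
      rw [hw]; exact O.2
    calc FlatMor.localDim (↥I.subscheme) w
        ≤ topologicalKrullDim ((I.subschemeι ⁻¹ᵁ O.1 : I.subscheme.Opens) : Set ↥I.subscheme) :=
          iInf_le (fun O' : {O' : TopologicalSpace.Opens ↥I.subscheme // w ∈ O'} =>
            topologicalKrullDim (O'.1 : Set ↥I.subscheme)) ⟨_, hwO⟩
      _ < topologicalKrullDim (O.1 : Set ↥U.left) :=
          CartierDim.krullDim_lt hIc O.1 ⟨w, hwO⟩ (by rw [show topologicalKrullDim _ = d from hO]; exact hfin)
      _ = d := hO

end Groth.Agent.SchImg
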