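import Groth.Agent.SchImg.Dense
import Groth.Prelude.Def_AlgSpOX2
import Mathlib.Algebra.Category.Ring.FilteredColimits
import Mathlib.Algebra.Category.Ring.Limits
import Mathlib.CategoryTheory.Sites.Limits

/-!
# Scheme theoretic density and injectivity of restriction of functions
-/

set_option autoImplicit false

universe u

open CategoryTheory CategoryTheory.Limits AlgebraicGeometry Opposite

set_option backward.isDefEq.respectTransparency false

namespace Groth.Agent.SchImg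

open _root_.AlgSp Groth.Agent.AlgSpLib

variable {S : Scheme.{u}} {X G : Sp S}

theorem injective_appLE_iff {T U : Scheme.{u}} (v : T ⟶ U) [IsOpenImmersion v] (O A : U.Opens)
    (h : ⊤ ≤ v ⁻¹ᵁ O) (hA : v ''ᵁ ⊤ = A) (hle : A ≤ O) :
    Function.Injective (v.appLE O ⊤ h).hom ↔ Function.Injective (U.presheaf.map (homOfLE hle).op).hom := by
  subst hA
  rw [show v.appLE O ⊤ h = U.presheaf.map (homOfLE hle).op ≫ v.appLE (v ''ᵁ ⊤) ⊤ (v.preimage_image_eq ⊤).ge from
    (Scheme.Hom.map_appLE _ _ _).symm, CommRingCat.hom_comp, RingHom.coe_comp]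
  have hb : Function.Bijective (v.appLE (v ''ᵁ ⊤) ⊤ (v.preimage_image_eq ⊤).ge).hom := by
    rw [← Scheme.Hom.appIso_hom']
    exact (v.appIso ⊤).commRingCatIsoToRingEquiv.bijective
  exact Function.Injective.of_comp_iff hb.1 _

theorem appTop_eq_appLE {T U : Scheme.{u}} (v : T ⟶ U) : v.appTop = v.appLE ⊤ ⊤ le_rfl :=
  Scheme.Hom.app_eq_appLE v

theorem range_bcπ {j : G ⟶ X} (hj : RepWith @IsOpenImmersion j) (E : EtOver X) {W : E.obj.left.left.Opens}
    {fst : (yon S).obj (Over.mk (W.ι ≫ E.obj.left.hom)) ⟶ G}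
    (sq : IsPullback fst ((yon S).map (Over.homMk W.ι rfl : Over.mk (W.ι ≫ E.obj.left.hom) ⟶ E.obj.left)) j E.obj.hom) :
    Set.range (EtOver.bcπ hj.1 E).left = (W : Set E.obj.left.left) := by
  have hsq := EtOver.isPullback_bcObj hj.1 E
  let e := hsq.isoIsPullback _ _ sq
  obtain ⟨m, hm⟩ := exists_map_eq e.hom
  obtain ⟨m', hm'⟩ := exists_map_eq e.inv
  have h1 : m ≫ (Over.homMk W.ι rfl : Over.mk (W.ι ≫ E.obj.left.hom) ⟶ E.obj.left) = EtOver.bcπ hj.1 E :=
    (yon S).map_injective (by rw [Functor.map_comp, hm]; exact hsq.isoIsPullback_hom_snd _ _ sq)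
  have h2 : m' ≫ EtOver.bcπ hj.1 E = (Over.homMk W.ι rfl : Over.mk (W.ι ≫ E.obj.left.hom) ⟶ E.obj.left) :=
    (yon S).map_injective (by rw [Functor.map_comp, hm']; exact hsq.isoIsPullback_inv_snd _ _ sq)
  ext x
  refine ⟨fun ⟨w, hw⟩ => ?_, fun hx => ⟨m'.left ⟨x, hx⟩, ?_⟩⟩
  · rw [← hw, ← h1]
    exact (m.left w).2
  · exact congrArg (fun q : Over.mk (W.ι ≫ E.obj.left.hom) ⟶ E.obj.left => q.left ⟨x, hx⟩) h2

theorem mono_bcRingHom_iff {f : G ⟶ X} (hf : Representable f) :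
    Mono (bcRingHom hf) ↔ ∀ E : EtOver X, Function.Injective (EtOver.bcπ hf E).left.appTop.hom := by
  refine ⟨fun h E => ?_, fun h => ?_⟩
  · have h1 : Mono ((sheafToPresheaf _ _).map (bcRingHom hf)) := (sheafToPresheaf _ _).map_mono _
    have h2 := (NatTrans.mono_iff_mono_app _).1 h1 (op E)
    have h3 := ConcreteCategory.injective_of_mono_of_preservesPullback (((sheafToPresheaf _ _).map (bcRingHom hf)).app (op E))
    intro a b e
    exact congrArg ULift.down (h3 (a₁ := ULift.up a) (a₂ := ULift.up b) (congrArg ULift.up e))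
  · refine (sheafToPresheaf _ _).mono_of_mono_map ?_
    rw [NatTrans.mono_iff_mono_app]
    intro E
    refine ConcreteCategory.mono_of_injective _ fun a b e => ?_
    exact ULift.ext _ _ (h E.unop (congrArg ULift.down e))

theorem schDense_iff_injective {j : G ⟶ X} (hX : IsAlgSpace X) (hj : RepWith @IsOpenImmersion j) :
    IsSchDense j ↔ ∀ E : EtOver X, Function.Injective (EtOver.bcπ hj.1 E).left.appTop.hom := by
  refine ⟨fun h E => ?_, fun h => ⟨hj, ?_⟩⟩
  · obtain ⟨W, fst, sq⟩ := exists_open_pullback hj E.obj.hom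
    have hW := dense_of_schDense hX h E.property sq
    have : IsOpenImmersion (EtOver.bcπ hj.1 E).left := hj.2 _ _ _ (EtOver.isPullback_bcObj hj.1 E)
    have hA : (EtOver.bcπ hj.1 E).left ''ᵁ ⊤ = ⊤ ⊓ W := TopologicalSpace.Opens.ext (by
      rw [top_inf_eq, ← range_bcπ hj E sq, Scheme.Hom.coe_image, TopologicalSpace.Opens.coe_top, Set.image_univ])
    have := (injective_appLE_iff _ ⊤ _ le_rfl hA inf_le_left).2 (hW ⊤)
    rw [appTop_eq_appLE]
    exact this
  · obtain ⟨U, π, hπ, hπs⟩ := hX.atlas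
    obtain ⟨W, fst, sq⟩ := exists_open_pullback hj π
    refine ⟨U, π, W, fst, hπ, hπs, sq, fun O => ?_⟩
    let o : Over.mk (O.ι ≫ U.hom) ⟶ U := Over.homMk O.ι rfl
    let E : EtOver X := EtOver.mk ((yon S).map o ≫ π)
      (repWith_comp ((repWith_yon_iff o).2 (inferInstanceAs (Etale O.ι))) hπ)
    have : IsOpenImmersion (EtOver.bcπ hj.1 E).left := hj.2 _ _ _ (EtOver.isPullback_bcObj hj.1 E)
    obtain ⟨W', fst', sq'⟩ := exists_open_pullback hj E.obj.hom
    have hW' : ∀ x : (O : Scheme.{u}), x ∈ W' ↔ O.ι x ∈ W := fun x => by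
      rw [mem_open_iff sq', mem_open_iff sq]
      exact (congrArg (· ∈ Set.range (Points.map j)) (ofPt_comp o π x)).to_iff
    let v : (EtOver.bcObj hj.1 E).obj.left.left ⟶ U.left := (EtOver.bcπ hj.1 E).left ≫ O.ι
    have hA : v ''ᵁ ⊤ = O ⊓ W := TopologicalSpace.Opens.ext (by
      ext x
      rw [Scheme.Hom.coe_image, TopologicalSpace.Opens.coe_top, Set.image_univ]
      refine ⟨fun ⟨w, hw⟩ => ?_, fun ⟨hxO, hxW⟩ => ?_⟩
      · have hmem : (EtOver.bcπ hj.1 E).left w ∈ (W' : Set E.obj.left.left) :=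
          (range_bcπ hj E sq').le ⟨w, rfl⟩
        rw [← hw]
        exact ⟨((EtOver.bcπ hj.1 E).left w).2, (hW' _).1 hmem⟩
      · obtain ⟨w, hw⟩ := (range_bcπ hj E sq').ge ((hW' ⟨x, hxO⟩).2 hxW)
        exact ⟨w, congrArg Subtype.val hw⟩)
    have hv : ⊤ ≤ v ⁻¹ᵁ O := fun w _ => ((EtOver.bcπ hj.1 E).left w).2
    refine (injective_appLE_iff v O _ hv hA inf_le_left).1 ?_
    rw [show v.appLE O ⊤ hv = O.ι.appLE O ⊤ (fun z _ => z.2) ≫ (EtOver.bcπ hj.1 E).left.appLE ⊤ ⊤ le_rfl from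
      (Scheme.Hom.appLE_comp_appLE _ _ _ _ _ _ _).symm, CommRingCat.hom_comp, RingHom.coe_comp]
    refine Function.Injective.comp ?_ ((injective_appLE_iff O.ι O O (fun z _ => z.2) O.ι_image_top le_rfl).2 ?_)
    · rw [← appTop_eq_appLE]; exact h E
    · rw [show U.left.presheaf.map (homOfLE (le_refl O)).op = 𝟙 _ from U.left.presheaf.map_id _]
      exact Function.injective_id

end Groth.Agent.SchImg
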