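import Groth.Agent.SchImg.Section
import Groth.Agent.SchImg.Dense
import Groth.Agent.AlgSpLib.Singleton
import Groth.Agent.SchImg.CartierSub
import Groth.Agent.SchImg.ValPoint
import Groth.Prelude.Def_Neron
import Mathlib.RingTheory.Flat.TorsionFree

/-!
# Closure of closed subspaces of the generic fibre over a Dedekind base
-/

set_option autoImplicit false

universe u

open CategoryTheory CategoryTheory.Limits AlgebraicGeometry

set_option backward.isDefEq.respectTransparency false

namespace Groth.Agent.SchImg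

open _root_.AlgSp Groth.Agent.AlgSpLib

variable {R : Type u} [CommRing R] [IsDedekindDomain R]

/-- the generic point over the base -/
noncomputable abbrev genOver (R : Type u) [CommRing R] [IsDedekindDomain R] :
    Over.mk (Neron.genPt R) ⟶ Over.mk (𝟙 (Spec (CommRingCat.of R))) :=
  Over.mkIdTerminal.from _

theorem genOver_left : (genOver R).left = Neron.genPt R :=
  (Category.comp_id _).symm.trans (Over.w (genOver R))

theorem isUnit_of_genPt {W : Scheme.{u}} (m : W ⟶ Spec (CommRingCat.of (FractionRing R))) {r : R} (hr : r ≠ 0) :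
    IsUnit ((m ≫ Neron.genPt R).appTop ((Scheme.ΓSpecIso (CommRingCat.of R)).inv r)) := by
  have h := congr($(Scheme.ΓSpecIso_inv_naturality (CommRingCat.ofHom (algebraMap R (FractionRing R)))).hom r)
  have hu : IsUnit (algebraMap R (FractionRing R) r) :=
    (IsUnit.mk0 _ fun h0 => hr (IsFractionRing.injective R (FractionRing R) (h0.trans (map_zero _).symm)))
  have hu' := (hu.map (Scheme.ΓSpecIso (CommRingCat.of (FractionRing R))).inv.hom).map m.appTop.hom
  rw [Scheme.Hom.comp_appTop]
  show IsUnit (m.appTop.hom ((Neron.genPt R).appTop.hom _))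
  convert hu' using 2
  exact h.symm

theorem flat_of_kerIdeal {H Y : Sp (Spec (CommRingCat.of R))} (hH : IsAlgSpace H) (hY : IsAlgSpace Y) {h : H ⟶ Y}
    (hq : IsQuasiCompactMor h) (qH : H ⟶ (yon _).obj (Over.mk (Neron.genPt R)))
    {U : Over (Spec (CommRingCat.of R))} (π : (yon _).obj U ⟶ Y) :
    Flat ((kerIdeal h π).subschemeι ≫ U.hom) := by
  let I := kerIdeal h π
  rw [HasRingHomProperty.iff_of_source_openCover (P := @Flat) (I.subschemeCover.openCover)]
  intro O
  change RingHom.Flat _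
  rw [← HasRingHomProperty.iff_of_isAffine (P := @Flat)]
  show Flat (I.subschemeCover.f O ≫ I.subschemeι ≫ U.hom)
  let φ : CommRingCat.of R ⟶ Γ(U.left, O.1) :=
    (Scheme.ΓSpecIso (CommRingCat.of R)).inv ≫ U.hom.appLE ⊤ O.1 le_top
  have hφ : O.2.fromSpec ≫ U.hom = Spec.map φ := by
    rw [← IsAffineOpen.SpecMap_appLE_fromSpec U.hom (isAffineOpen_top _) O.2 le_top, Spec.map_comp,
      IsAffineOpen.fromSpec_top, Scheme.isoSpec_Spec_inv]
  rw [← Category.assoc, I.subschemeCover_map_subschemeι, Category.assoc, reassoc_of% (I.glueDataObjι_ι O), hφ, ← Spec.map_comp,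
    HasRingHomProperty.Spec_iff (P := @Flat)]
  let Q := Γ(U.left, O.1) ⧸ I.ideal O
  let ψ : R →+* Q := (Ideal.Quotient.mk (I.ideal O)).comp φ.hom
  show ψ.Flat
  algebraize [ψ]
  have key : ∀ (r : R) (a : Γ(U.left, O.1)), r ≠ 0 → φ.hom r * a ∈ I.ideal O → a ∈ I.ideal O := by
    intro r a hr hra
    let UO : Over (Spec (CommRingCat.of R)) := Over.mk (O.1.ι ≫ U.hom)
    let jO : UO ⟶ U := Over.homMk O.1.ι rfl
    have : IsAffine UO.left := O.2
    obtain ⟨W, c, g, hce, hcs, hg, hqc⟩ := exists_qc_atlas hH hY hq ((yon _).map jO ≫ π)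
    have sq := IsPullback.of_hasPullback h ((yon _).map jO ≫ π)
    have hker : g.left.ker = I.comap O.1.ι :=
      (kerIdeal_eq_ker (isAlgSpace_of_isPullback_space hY hH (IsAlgSpace.yon_obj UO) sq) sq hce hcs hg).symm.trans
        (kerIdeal_comap_open hH hY hq π O.1 O.2)
    obtain ⟨mW, -⟩ := exists_map_eq (c ≫ pullback.fst h ((yon _).map jO ≫ π) ≫ qH)
    have hW : W.hom = mW.left ≫ Neron.genPt R := (Over.w mW).symm
    have hle : (⊤ : UO.left.Opens) ≤ O.1.ι ⁻¹ᵁ O.1 := fun z _ => z.2
    let α := O.1.ι.appLE O.1 ⊤ hle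
    have hα : Function.Bijective α.hom := by
      have : IsIso α := by
        show IsIso (O.1.ι.appLE O.1 ⊤ hle)
        rw [Scheme.Opens.ι_appLE]
        have h' : (O.1 : U.left.Opens) = O.1.ι ''ᵁ ⊤ := O.1.ι_image_top.symm
        rw [show ∀ p : O.1.ι ''ᵁ (⊤ : UO.left.Opens) ≤ O.1, homOfLE p = eqToHom h'.symm from fun _ => Subsingleton.elim _ _]
        infer_instance
      exact ConcreteCategory.bijective_of_isIso α
    have hid := congrArg (fun J => Scheme.IdealSheafData.ideal J ⟨⊤, isAffineOpen_top UO.left⟩) hker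
    dsimp only at hid
    rw [Scheme.Hom.ker_apply, FpqcDescent.ideal_comap_appLE I O.1.ι O ⟨⊤, isAffineOpen_top UO.left⟩ hle] at hid
    have h0 : g.left.app ⊤ (α.hom (φ.hom r * a)) = 0 := by
      refine RingHom.mem_ker.1 (hid.ge ?_)
      exact Ideal.mem_map_of_mem _ hra
    rw [map_mul, map_mul] at h0
    have hunit : IsUnit (g.left.app ⊤ (α.hom (φ.hom r))) := by
      have := isUnit_of_genPt mW.left hr
      rw [← hW, ← Over.w g] at this
      have hstr : U.hom.appLE ⊤ O.1 le_top ≫ O.1.ι.appLE O.1 ⊤ hle = UO.hom.appTop := by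
        rw [Scheme.Hom.appLE_comp_appLE]
        exact Scheme.Hom.appLE_eq_app _
      have e0 : g.left.app ⊤ (α.hom (φ.hom r)) =
          (g.left ≫ UO.hom).appTop ((Scheme.ΓSpecIso (CommRingCat.of R)).inv r) := by
        rw [Scheme.Hom.comp_appTop, ← hstr]
        rfl
      exact e0.symm ▸ this
    have ha0 : g.left.app ⊤ (α.hom a) = 0 := hunit.mul_right_eq_zero.1 h0
    obtain ⟨b, hb, hba⟩ := (Ideal.mem_map_iff_of_surjective _ hα.2).1 (hid.le (RingHom.mem_ker.2 ha0))
    rwa [← hα.1 hba]
  have : Module.IsTorsionFree R Q := by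
    refine Module.IsTorsionFree.mk fun r hr x y hxy => ?_
    obtain ⟨a, rfl⟩ := Ideal.Quotient.mk_surjective x
    obtain ⟨b, rfl⟩ := Ideal.Quotient.mk_surjective y
    refine (Ideal.Quotient.eq).2 (key r (a - b) hr.ne_zero ?_)
    rw [mul_sub]
    refine (Ideal.Quotient.eq).1 ?_
    rw [map_mul, map_mul]
    exact hxy
  exact (inferInstance : Module.Flat R Q)

theorem genericClosure {Y YK H Z : Sp (Spec (CommRingCat.of R))} (hY : IsAlgSpace Y) (hYK : IsAlgSpace YK)
    (hH : IsAlgSpace H) {pY : Y ⟶ (yon _).obj (Over.mk (𝟙 (Spec (CommRingCat.of R))))} {pr : YK ⟶ Y}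
    {qK : YK ⟶ (yon _).obj (Over.mk (Neron.genPt R))} (sqK : IsPullback pr qK pY ((yon _).map (genOver R)))
    {k : H ⟶ YK} (hk : RepWith @IsClosedImmersion k) {i : Z ⟶ Y} (hZ : IsSchImage (k ≫ pr) i) :
    LocP @Flat (i ≫ pY) ∧ (∃ m : H ⟶ Z, m ≫ i = k ≫ pr ∧ IsPullback m k i pr) ∧
      ∀ (Z' : Sp (Spec (CommRingCat.of R))) (i' : Z' ⟶ Y) (m' : H ⟶ Z'), RepWith @IsClosedImmersion i' →
        LocP @Flat (i' ≫ pY) → IsPullback m' k i' pr → ∃ e : Z ≅ Z', e.hom ≫ i' = i := by
  have hgen : Flat (genOver R).left := by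
    rw [genOver_left]
    exact (HasRingHomProperty.Spec_iff (P := @Flat)).2
      (RingHom.flat_algebraMap_iff.2 (IsLocalization.flat (FractionRing R) (nonZeroDivisors R)))
  have : Mono (genOver R).left := by
    rw [genOver_left]
    have : Epi (CommRingCat.ofHom (algebraMap R (FractionRing R))) :=
      IsLocalization.epi (nonZeroDivisors R) (FractionRing R)
    have : Mono (CommRingCat.ofHom (algebraMap R (FractionRing R))).op := inferInstance
    exact (inferInstanceAs (Mono (Scheme.Spec.map (CommRingCat.ofHom (algebraMap R (FractionRing R))).op)))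
  have : Mono (genOver R) := mono_of_left _
  have : Mono pr := sqK.mono_fst_of_mono
  have hgenA : IsAffineHom (Neron.genPt R) := isAffineHom_of_isAffine _
  have hprA : RepWith @IsAffineHom pr := repWith_baseChange sqK.flip ((repWith_yon_iff _).2 (by
    rw [genOver_left]; infer_instance))
  have hprF : LocP @Flat pr := (locP_iff_repWith etST_flat hY hprA.1).2
    (repWith_baseChange sqK.flip ((repWith_yon_iff _).2 hgen))
  have hprQ : IsQuasiCompactMor pr := (isQuasiCompactMor_iff_repWith hYK hY hprA.1).2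
    (repWith_mono (fun _ _ r hr => by
      have : IsAffineHom r := hr
      infer_instance) hprA)
  have hq : IsQuasiCompactMor (k ≫ pr) :=
    isQuasiCompactMor_comp hYK hY (isProperMor_of_closedImmersion hH hYK hk).2.1.2 hprQ
  have hi := hZ.1
  have hZs := isAlgSpace_of_closed hY hi
  have := mono_of_closed hi
  refine ⟨?_, ?_, fun Z' i' m' hi' hfl sq' => ?_⟩
  · obtain ⟨U, π, hπ, hπs⟩ := hY.atlas
    have hI := pullIdeal_eq_kerIdeal_atlas hH hY hq hZ hπ hπs
    obtain ⟨fst, sq⟩ := exists_std_square hi hI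
    obtain ⟨m, hm⟩ := exists_map_eq (π ≫ pY)
    refine locP_of_comp_surjective etST_flat hZs (repWith_baseChange sq.flip hπ) (repWith_baseChange sq.flip hπs) ?_
    rw [reassoc_of% sq.w, ← hm, ← Functor.map_comp]
    refine locP_yon_map etST_flat _ ?_
    rw [Over.comp_left, show m.left = U.hom from (Category.comp_id _).symm.trans (Over.w m)]
    exact flat_of_kerIdeal hH hY hq (k ≫ qK) π
  · have sqS : IsPullback (𝟙 H) k (k ≫ pr) pr := IsPullback.of_horiz_isIso_mono ⟨Category.id_comp _⟩
    have sqC := IsPullback.of_hasPullback i pr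
    have himg := isSchImage_baseChange_flat hH hY hYK hq hZ hprF sqS sqC
    have := mono_of_closed himg.1
    have := mono_of_closed hk
    obtain ⟨a, ha⟩ := himg.2.1
    obtain ⟨b, hb⟩ := himg.2.2 k hH hk ⟨𝟙 H, Category.id_comp _⟩
    let e : pullback i pr ≅ H := ⟨b, a,
      by rw [← cancel_mono (pullback.snd i pr), Category.assoc, ha, hb, Category.id_comp],
      by rw [← cancel_mono k, Category.assoc, hb, ha, Category.id_comp]⟩
    refine ⟨a ≫ pullback.fst i pr, by rw [Category.assoc, pullback.condition, reassoc_of% ha], ?_⟩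
    exact sqC.of_iso e (Iso.refl _) (Iso.refl _) (Iso.refl _) (by
      simp only [Iso.refl_hom, Category.comp_id]
      show pullback.fst i pr = b ≫ a ≫ pullback.fst i pr
      rw [← Category.assoc, show b ≫ a = 𝟙 _ from e.hom_inv_id, Category.id_comp]) (by
      simp only [Iso.refl_hom, Category.comp_id]; exact hb.symm) (by simp) (by simp)
  · have := mono_of_closed hi'
    have hZ's := isAlgSpace_of_closed hY hi'
    obtain ⟨e, he⟩ := hZ.2.2 i' hZ's hi' ⟨m', sq'.w⟩
    have hgQ : IsQuasiCompactMor ((yon _).map (genOver R)) :=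
      (isQuasiCompactMor_iff_repWith (IsAlgSpace.yon_obj _) (IsAlgSpace.yon_obj _)
        ((repWith_yon_iff (P := @Flat) _).2 hgen).1).2 ((repWith_yon_iff _).2 (by rw [genOver_left]; infer_instance))
    have hbase : IsSchImage ((yon _).map (genOver R)) (𝟙 _) := by
      refine isSchImage_of_kerIdeal (π := 𝟙 _) (IsAlgSpace.yon_obj _) (IsAlgSpace.yon_obj _)
        (Bootstrap.repWith_id _) (Bootstrap.repWith_id _) (Bootstrap.repWith_id _) ?_
      rw [kerIdeal_eq_ker_of_yon (fst := 𝟙 _) (g := genOver R) (IsPullback.of_horiz_isIso ⟨by simp⟩), genOver_left,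
        ker_specMap_of_injective _ (IsFractionRing.injective R (FractionRing R))]
      exact isPullIdeal_id _
    have himg := isSchImage_baseChange_flat (IsAlgSpace.yon_obj _) (IsAlgSpace.yon_obj _) hZ's hgQ hbase hfl
      (sq'.flip.paste_horiz sqK.flip) (IsPullback.of_vert_isIso (snd := 𝟙 Z') (f := 𝟙 _) (g := i' ≫ pY) (fst := i' ≫ pY) ⟨by simp⟩)
    obtain ⟨f', hf'⟩ := hZ.2.1
    have sqP := IsPullback.of_hasPullback i i'
    obtain ⟨s, hs⟩ := himg.2.2 (pullback.snd i i') (isAlgSpace_of_isPullback_space hY hZs hZ's sqP)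
      (repWith_baseChange sqP hi) ⟨pullback.lift f' m' (by rw [hf', sq'.w]), pullback.lift_snd _ _ _⟩
    have hk2 : (s ≫ pullback.fst i i') ≫ i = i' := by
      rw [Category.assoc, pullback.condition, reassoc_of% hs]
    exact ⟨⟨e, s ≫ pullback.fst i i', by rw [← cancel_mono i, Category.assoc, hk2, he, Category.id_comp],
      by rw [← cancel_mono i', Category.assoc, he, hk2, Category.id_comp]⟩, he⟩

end Groth.Agent.SchImg
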