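import Groth.Agent.SchImg.IdealTools
import Groth.Agent.AlgSpLib.Space
import Groth.Agent.AlgSpLib.Points
import Groth.Agent.AlgSpLib.Quot
import Groth.Agent.AlgSpLib.QCompact
import Groth.Agent.AlgSpLib.Criteria
import Groth.Agent.AlgSpLib.FppfBase
import Groth.Agent.QA.IndQA
import Groth.Agent.FpqcDescent.IdealGlue
import Groth.Agent.GrpdFit.Ideal
import Groth.Prelude.Def_AlgSpSub

/-!
# The ideal killed by a morphism to an algebraic space, read on a chart
-/

set_option autoImplicit false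

universe u

open CategoryTheory CategoryTheory.Limits AlgebraicGeometry

set_option backward.isDefEq.respectTransparency false

namespace Groth.Agent.SchImg

open _root_.AlgSp Groth.Agent.AlgSpLib

variable {S : Scheme.{u}} {X Y Z : Sp S}

/-- `I` dies on every scheme over `X` and the chart -/
def Kills (f : X ⟶ Y) {U : Over S} (φ : (yon S).obj U ⟶ Y) (I : U.left.IdealSheafData) : Prop :=
  ∀ ⦃T : Over S⦄ (z : (yon S).obj T ⟶ X) (α : T ⟶ U), z ≫ f = (yon S).map α ≫ φ → I.comap α.left = ⊥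

/-- the largest ideal killed -/
noncomputable def kerIdeal (f : X ⟶ Y) {U : Over S} (φ : (yon S).obj U ⟶ Y) : U.left.IdealSheafData :=
  sSup {I | Kills f φ I}

theorem kills_iff (f : X ⟶ Y) {U : Over S} (φ : (yon S).obj U ⟶ Y) (I : U.left.IdealSheafData) :
    Kills f φ I ↔ I ≤ kerIdeal f φ := by
  refine ⟨fun h => le_sSup h, fun h T z α e => ?_⟩
  refine le_bot_iff.1 ((Scheme.IdealSheafData.comap_mono α.left h).trans ?_)
  show (kerIdeal f φ).comap α.left ≤ ⊥
  rw [kerIdeal, comap_sSup]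
  exact iSup₂_le fun J hJ => (hJ z α e).le

theorem kills_comap {f : X ⟶ Y} {U U' : Over S} {φ : (yon S).obj U ⟶ Y} {I : U.left.IdealSheafData}
    (h : Kills f φ I) (β : U' ⟶ U) : Kills f ((yon S).map β ≫ φ) (I.comap β.left) := fun T z α e => by
  rw [← Scheme.IdealSheafData.comap_comp]
  exact h z (α ≫ β) (by rw [e, Functor.map_comp, Category.assoc])

theorem comap_kerIdeal_le (f : X ⟶ Y) {U U' : Over S} (φ : (yon S).obj U ⟶ Y) (β : U' ⟶ U) :
    (kerIdeal f φ).comap β.left ≤ kerIdeal f ((yon S).map β ≫ φ) :=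
  (kills_iff f _ _).1 (kills_comap ((kills_iff f φ _).2 le_rfl) β)

/-- computed by an atlas of the fibre product -/
theorem kerIdeal_eq_ker {f : X ⟶ Y} {U W : Over S} {φ : (yon S).obj U ⟶ Y} {P : Sp S} {fst : P ⟶ X}
    {snd : P ⟶ (yon S).obj U} (hP : IsAlgSpace P) (sq : IsPullback fst snd f φ) {c : (yon S).obj W ⟶ P}
    (hce : RepWith @Etale c) (hcs : RepWith @Surjective c) {g : W ⟶ U} (hg : (yon S).map g = c ≫ snd) :
    kerIdeal f φ = g.left.ker := by
  refine le_antisymm ?_ ((kills_iff f φ _).1 fun T z α e => ?_)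
  · rw [← comap_eq_bot_iff]
    exact (kills_iff f φ _).2 le_rfl (c ≫ fst) g (by rw [hg, Category.assoc, Category.assoc, sq.w])
  · obtain ⟨T', d, r, sqT⟩ := exists_pullback hP.diag (sq.lift z ((yon S).map α) e) c
    have : Etale d.left := (repWith_yon_iff d).1 (repWith_baseChange sqT.flip hce)
    have : Surjective d.left := (repWith_yon_iff d).1 (repWith_baseChange sqT.flip hcs)
    have he : d ≫ α = r ≫ g := (yon S).map_injective (by
      have := congrArg (· ≫ snd) sqT.w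
      simp only [Category.assoc, IsPullback.lift_snd] at this
      rw [Functor.map_comp, Functor.map_comp, hg, this])
    refine eq_of_comap_eq d.left ?_
    rw [← Scheme.IdealSheafData.comap_comp, Scheme.IdealSheafData.comap_bot, comap_eq_bot_iff,
      show d.left ≫ α.left = r.left ≫ g.left from congrArg (fun k => k.left) he]
    exact Scheme.Hom.le_ker_comp _ _

/-- an affine chart has a quasi-compact atlas of the fibre product -/
theorem exists_qc_atlas {f : X ⟶ Y} (hX : IsAlgSpace X) (hY : IsAlgSpace Y) (hf : IsQuasiCompactMor f)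
    {U : Over S} [IsAffine U.left] (φ : (yon S).obj U ⟶ Y) :
    ∃ (W : Over S) (c : (yon S).obj W ⟶ pullback f φ) (g : W ⟶ U),
      RepWith @Etale c ∧ RepWith @Surjective c ∧ (yon S).map g = c ≫ pullback.snd f φ ∧
      QuasiCompact g.left := by
  have sq := IsPullback.of_hasPullback f φ
  have hP : IsAlgSpace (pullback f φ) := isAlgSpace_of_isPullback_space hY hX (IsAlgSpace.yon_obj U) sq
  have hq : IsQuasiCompactSp (pullback f φ) :=
    hf (IsAlgSpace.yon_obj U) (isQuasiCompactSp_yon U) φ _ _ sq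
  have := compactSpace_of_isQuasiCompactSp hq
  obtain ⟨W, c, hW, hce, hcs⟩ := exists_affine_chart_of_compact hP
  obtain ⟨g, hg⟩ := exists_map_eq (c ≫ pullback.snd f φ)
  exact ⟨W, c, g, hce, hcs, hg, inferInstance⟩

theorem kerIdeal_comap_affine {f : X ⟶ Y} (hX : IsAlgSpace X) (hY : IsAlgSpace Y) (hf : IsQuasiCompactMor f)
    {U U' : Over S} [IsAffine U.left] (φ : (yon S).obj U ⟶ Y) (β : U' ⟶ U) [Flat β.left] :
    kerIdeal f ((yon S).map β ≫ φ) = (kerIdeal f φ).comap β.left := by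
  obtain ⟨W, c, g, hce, hcs, hg, hqc⟩ := exists_qc_atlas hX hY hf φ
  have sq := IsPullback.of_hasPullback f φ
  have hP : IsAlgSpace (pullback f φ) := isAlgSpace_of_isPullback_space hY hX (IsAlgSpace.yon_obj U) sq
  rw [kerIdeal_eq_ker hP sq hce hcs hg]
  obtain ⟨R, r, g', sqR⟩ := exists_pullback (IsAlgSpace.yon_obj U).diag ((yon S).map g) ((yon S).map β)
  have sq' := IsPullback.of_hasPullback f ((yon S).map β ≫ φ)
  have hP' : IsAlgSpace (pullback f ((yon S).map β ≫ φ)) :=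
    isAlgSpace_of_isPullback_space hY hX (IsAlgSpace.yon_obj U') sq'
  let π : pullback f ((yon S).map β ≫ φ) ⟶ pullback f φ :=
    pullback.lift (pullback.fst _ _) (pullback.snd _ _ ≫ (yon S).map β) (by
      rw [pullback.condition, Category.assoc])
  have sqπ : IsPullback π (pullback.snd f ((yon S).map β ≫ φ)) (pullback.snd f φ) ((yon S).map β) :=
    IsPullback.of_right (by rw [pullback.lift_fst]; exact sq') (pullback.lift_snd _ _ _) sq
  let c' : (yon S).obj R ⟶ pullback f ((yon S).map β ≫ φ) :=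
    sqπ.lift ((yon S).map r ≫ c) ((yon S).map g') (by rw [Category.assoc, ← hg]; exact sqR.w)
  have sqc : IsPullback ((yon S).map r) c' c π :=
    IsPullback.of_bot (by rw [sqπ.lift_snd, ← hg]; exact sqR) (sqπ.lift_fst _ _ _).symm sqπ
  rw [kerIdeal_eq_ker hP' sq' (c := c') (repWith_baseChange sqc hce) (repWith_baseChange sqc hcs)
    (g := g') (sqπ.lift_snd _ _ _).symm]
  exact ker_baseChange (isPullback_yon_iff.1 sqR)

/-- the restriction to an affine open -/
theorem kerIdeal_comap_open {f : X ⟶ Y} (hX : IsAlgSpace X) (hY : IsAlgSpace Y) (hf : IsQuasiCompactMor f)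
    {U : Over S} (φ : (yon S).obj U ⟶ Y) (O : U.left.Opens) (hO : IsAffineOpen O) :
    kerIdeal f ((yon S).map (Over.homMk O.ι rfl : Over.mk (O.ι ≫ U.hom) ⟶ U) ≫ φ) =
      (kerIdeal f φ).comap O.ι := by
  let ι' := {V : U.left.Opens // IsAffineOpen V}
  let V : ι' → Over S := fun i => Over.mk (i.1.ι ≫ U.hom)
  let q : ∀ i, V i ⟶ U := fun i => Over.homMk i.1.ι rfl
  have : ∀ i, IsAffine (V i).left := fun i => i.2
  let I : ∀ i, (V i).left.IdealSheafData := fun i => kerIdeal f ((yon S).map (q i) ≫ φ)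
  have hsup : ⨆ i : ι', i.1 = ⊤ := eq_top_iff.2 fun x _ => by
    obtain ⟨W, hW, hxW, -⟩ := exists_isAffineOpen_mem_and_subset (TopologicalSpace.Opens.mem_top x)
    exact TopologicalSpace.Opens.mem_iSup.2 ⟨⟨W, hW⟩, hxW⟩
  have hcov : Presieve.ofArrows (fun i : ι' => (i.1 : Scheme.{u})) (fun i => i.1.ι) ∈
      Scheme.fpqcPrecoverage U.left :=
    Scheme.zariskiPrecoverage_le_fpqcPrecoverage _ (U.left.openCoverOfIsOpenCover _ hsup).mem₀
  have hcompat : ∀ i j, (I i).comap (pullback.fst i.1.ι j.1.ι) = (I j).comap (pullback.snd i.1.ι j.1.ι) := by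
    intro i j
    let P : Over S := Over.mk (pullback.fst i.1.ι j.1.ι ≫ i.1.ι ≫ U.hom)
    let a : P ⟶ V i := Over.homMk (pullback.fst i.1.ι j.1.ι) rfl
    let b : P ⟶ V j := Over.homMk (pullback.snd i.1.ι j.1.ι) (by
      show _ ≫ j.1.ι ≫ U.hom = pullback.fst i.1.ι j.1.ι ≫ i.1.ι ≫ U.hom
      rw [pullback.condition_assoc])
    have : Flat a.left := inferInstanceAs (Flat (pullback.fst i.1.ι j.1.ι))
    have : Flat b.left := inferInstanceAs (Flat (pullback.snd i.1.ι j.1.ι))
    have ha := kerIdeal_comap_affine hX hY hf ((yon S).map (q i) ≫ φ) a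
    have hb := kerIdeal_comap_affine hX hY hf ((yon S).map (q j) ≫ φ) b
    refine ha.symm.trans (Eq.trans ?_ hb)
    rw [← Functor.map_comp_assoc, ← Functor.map_comp_assoc,
      show a ≫ q i = b ≫ q j from Over.OverMorphism.ext pullback.condition]
  obtain ⟨J, hJ, -⟩ := FpqcDescent.existsUnique_descent hcov I hcompat
  have hJK : Kills f φ J := by
    intro T z α e
    refine GrpdFit.eq_of_comap_opens (fun i : ι' => α.left ⁻¹ᵁ i.1) (by
      rw [← Scheme.Hom.preimage_iSup, hsup]; rfl) _ _ fun i => ?_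
    let Ti : Over S := Over.mk ((α.left ⁻¹ᵁ i.1).ι ≫ T.hom)
    let κ : Ti ⟶ T := Over.homMk (α.left ⁻¹ᵁ i.1).ι rfl
    let αi : Ti ⟶ V i := Over.homMk (α.left ∣_ i.1) (by
      show (α.left ∣_ i.1) ≫ i.1.ι ≫ U.hom = (α.left ⁻¹ᵁ i.1).ι ≫ T.hom
      rw [morphismRestrict_ι_assoc, Over.w α])
    have hκ : κ ≫ α = αi ≫ q i := Over.OverMorphism.ext (morphismRestrict_ι _ _).symm
    have h := (kills_iff f ((yon S).map (q i) ≫ φ) (I i)).2 le_rfl ((yon S).map κ ≫ z) αi (by
      rw [Category.assoc, e, ← Functor.map_comp_assoc, hκ, Functor.map_comp_assoc])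
    rw [Scheme.IdealSheafData.comap_bot, ← Scheme.IdealSheafData.comap_comp, ← morphismRestrict_ι,
      Scheme.IdealSheafData.comap_comp, hJ i]
    exact h
  let i₀ : ι' := ⟨O, hO⟩
  refine le_antisymm ?_ (comap_kerIdeal_le f φ (q i₀))
  show I i₀ ≤ _
  rw [← hJ i₀]
  exact Scheme.IdealSheafData.comap_mono _ ((kills_iff f φ J).1 hJK)

/-- kernels commute with flat base change of the chart -/
theorem kerIdeal_comap_of_flat {f : X ⟶ Y} (hX : IsAlgSpace X) (hY : IsAlgSpace Y) (hf : IsQuasiCompactMor f)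
    {U U' : Over S} (φ : (yon S).obj U ⟶ Y) (β : U' ⟶ U) [Flat β.left] :
    kerIdeal f ((yon S).map β ≫ φ) = (kerIdeal f φ).comap β.left := by
  let ι' := {p : U'.left.affineOpens × U.left.affineOpens // p.1.1 ≤ β.left ⁻¹ᵁ p.2.1}
  have hsup : ⨆ p : ι', p.1.1.1 = ⊤ := eq_top_iff.2 fun x _ => by
    obtain ⟨O, hO, hxO, -⟩ := exists_isAffineOpen_mem_and_subset (TopologicalSpace.Opens.mem_top (β.left x))
    obtain ⟨V, hV, hxV, hVO⟩ := exists_isAffineOpen_mem_and_subset (show x ∈ β.left ⁻¹ᵁ O from hxO)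
    exact TopologicalSpace.Opens.mem_iSup.2 ⟨⟨(⟨V, hV⟩, ⟨O, hO⟩), hVO⟩, hxV⟩
  refine GrpdFit.eq_of_comap_opens (fun p : ι' => p.1.1.1) hsup _ _ fun ⟨⟨⟨V, hV⟩, ⟨O, hO⟩⟩, hVO⟩ => ?_
  let UV : Over S := Over.mk (V.ι ≫ U'.hom)
  let UO : Over S := Over.mk (O.ι ≫ U.hom)
  let jV : UV ⟶ U' := Over.homMk V.ι rfl
  let jO : UO ⟶ U := Over.homMk O.ι rfl
  let k : UV ⟶ UO := Over.homMk (β.left.resLE O V hVO) (by
    show β.left.resLE O V hVO ≫ O.ι ≫ U.hom = V.ι ≫ U'.hom
    rw [Scheme.Hom.resLE_comp_ι_assoc, Over.w β])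
  have hk : k ≫ jO = jV ≫ β := Over.OverMorphism.ext (Scheme.Hom.resLE_comp_ι _ _)
  have : IsAffine UO.left := hO
  have : Flat k.left := by
    show Flat (β.left.resLE O V hVO)
    infer_instance
  rw [← kerIdeal_comap_open hX hY hf _ V hV, ← Functor.map_comp_assoc, ← hk, Functor.map_comp_assoc,
    kerIdeal_comap_affine hX hY hf _ k, kerIdeal_comap_open hX hY hf φ O hO,
    ← Scheme.IdealSheafData.comap_comp, ← Scheme.IdealSheafData.comap_comp]
  exact congrArg _ (congrArg (fun q => q.left) hk)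

end Groth.Agent.SchImg
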