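import Groth.Agent.SchImg.LimPoints
import Groth.Agent.SchImg.LimClosed
import Groth.Agent.SchImg.Reduced

/-!
# Topology and closures of points in limits of algebraic spaces
-/

set_option autoImplicit false

universe u

open CategoryTheory CategoryTheory.Limits AlgebraicGeometry Opposite TopologicalSpace Topology

set_option backward.isDefEq.respectTransparency false

namespace Groth.Agent.SchImg

open _root_.AlgSp Groth.Agent.AlgSpLib

variable {S : Scheme.{u}}

theorem nonempty_points_lim {I : Type u} [SmallCategory I] [IsCofiltered I] (D : I ⥤ Sp S)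
    (hD : ∀ i, IsAlgSpace (D.obj i)) (hDa : ∀ (i j : I) (φ : i ⟶ j), IsAffineMor (D.map φ))
    (c : Cone D) (hc : IsLimit c) (hqc : ∀ i, IsQuasiCompactSp (D.obj i))
    (hne : ∀ i, Nonempty (Points (D.obj i))) : Nonempty (Points c.pt) := by
  obtain ⟨i₀⟩ := IsCofiltered.nonempty (C := I)
  have := compactSpace_of_isQuasiCompactSp (hqc i₀)
  obtain ⟨V, g, hV, -, hgs⟩ := exists_affine_chart_of_compact (hD i₀)
  obtain ⟨W, v, z, -, sq, -, G, zz, vv, L, pp, e, ⟨hL⟩, hG, -, sqj, -, -, -, -⟩ :=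
    exists_lim_square D (fun i j φ => (isAffineMor_iff_repWith _).1 (hDa i j φ)) c hc i₀ g
  let D' : Over i₀ ⥤ Scheme.{u} := G ⋙ Over.forget S
  have : ∀ j, IsAffine (D'.obj j) := hG
  have : ∀ {j k : Over i₀} (f : j ⟶ k), IsAffineHom (D'.map f) := fun f => inferInstance
  have : ∀ j, Nonempty (D'.obj j) := fun j => by
    obtain ⟨y⟩ := hne j.left
    obtain ⟨t, ht⟩ := ofPt_surjective hgs (Points.map (D.map j.hom) y)
    obtain ⟨w, -⟩ := exists_ofPt_pullback (sqj j) ht.symm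
    exact ⟨w⟩
  have : ∀ j, CompactSpace (D'.obj j) := fun j => inferInstance
  obtain ⟨y⟩ := Scheme.nonempty_of_isLimit D' L hL
  exact ⟨Points.ofPt z ((eqToHom e) y)⟩

/-- every neighbourhood of a point of the limit comes from a stage -/
theorem exists_stage_nhd {I : Type u} [SmallCategory I] [IsCofiltered I] (D : I ⥤ Sp S)
    (hD : ∀ i, IsAlgSpace (D.obj i)) (hDa : ∀ (i j : I) (φ : i ⟶ j), IsAffineMor (D.map φ))
    (c : Cone D) (hc : IsLimit c) {O : Set (Points c.pt)} (hO : IsOpen O) {x : Points c.pt} (hx : x ∈ O) :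
    ∃ (i : I) (A : Set (Points (D.obj i))), IsOpen A ∧ Points.map (c.π.app i) x ∈ A ∧
      Points.map (c.π.app i) ⁻¹' A ⊆ O := by
  obtain ⟨i₀⟩ := IsCofiltered.nonempty (C := I)
  obtain ⟨U, π, hπ, hπs⟩ := (hD i₀).atlas
  obtain ⟨u, hu⟩ := ofPt_surjective hπs (Points.map (c.π.app i₀) x)
  obtain ⟨O', hO', huO, -⟩ := exists_isAffineOpen_mem_and_subset (TopologicalSpace.Opens.mem_top u)
  let V : Over S := Over.mk (O'.ι ≫ U.hom)
  let jV : V ⟶ U := Over.homMk O'.ι rfl
  have : IsAffine V.left := hO'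
  have hg : RepWith @Etale ((yon S).map jV ≫ π) :=
    repWith_comp ((repWith_yon_iff jV).2 (inferInstanceAs (Etale O'.ι))) hπ
  obtain ⟨W, v, z, -, sq, -, G, zz, vv, L, pp, e, ⟨hL⟩, hG, hpp, sqj, -, hfac, -, hpv⟩ :=
    exists_lim_square D (fun i j φ => (isAffineMor_iff_repWith _).1 (hDa i j φ)) c hc i₀ ((yon S).map jV ≫ π)
  have hux : Points.map (c.π.app i₀) x = Points.ofPt ((yon S).map jV ≫ π) ⟨u, huO⟩ := by
    rw [ofPt_comp, ← hu]; rfl
  obtain ⟨w, hw⟩ := exists_ofPt_pullback sq hux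
  let D' : Over i₀ ⥤ Scheme.{u} := G ⋙ Over.forget S
  have : ∀ j, IsAffine (D'.obj j) := hG
  have : ∀ (j k : Over i₀) (f : j ⟶ k), IsAffineHom (D'.map f) := fun j k f => inferInstance
  obtain ⟨hT⟩ : Nonempty (IsLimit (Scheme.forgetToTop.mapCone L)) :=
    ⟨(LimExist.forgetToTop_isLimit _ L hL).some⟩
  let u₀ : W.left ⟶ L.pt := eqToHom e.symm
  have hopen : IsOpen (u₀.homeomorph '' (Points.ofPt z ⁻¹' O)) :=
    u₀.homeomorph.isOpenMap _ ((Points.continuous_ofPt z).isOpen_preimage _ hO)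
  obtain ⟨_, ⟨j, A, hA, rfl⟩, hwA, hsub⟩ :=
    (TopCat.isTopologicalBasis_cofiltered_limit (D' ⋙ Scheme.forgetToTop) (Scheme.forgetToTop.mapCone L) hT (fun _ => {A | IsOpen A})
      (fun j => by exact TopologicalSpace.isTopologicalBasis_opens)
      (fun j => isOpen_univ) (fun j A B hA hB => IsOpen.inter hA hB)
      (fun j k f A hA => hA.preimage (TopCat.Hom.hom _).continuous)).exists_subset_of_mem_open
      (show u₀.homeomorph w ∈ u₀.homeomorph '' (Points.ofPt z ⁻¹' O) from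
        ⟨w, show Points.ofPt z w ∈ O by rwa [hw], rfl⟩) hopen
  have hzz : RepWith @Etale (zz j) := repWith_baseChange (sqj j).flip hg
  have sqW : IsPullback z ((yon S).map (pp j)) (c.π.app j.left) (zz j) := by
    refine IsPullback.of_bot ?_ (hfac j).symm (sqj j)
    rw [← Functor.map_comp, hpv, c.w j.hom]
    exact sq
  refine ⟨j.left, Points.ofPt (zz j) '' A, isOpenMap_ofPt (repWith_universallyOpen_of_etale hzz) A hA, ?_, fun x' hx' => ?_⟩
  · refine ⟨L.π.app j (u₀ w), hwA, ?_⟩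
    rw [← hw, Points.map_ofPt, ← hfac j, ofPt_comp, hpp]
    rfl
  · obtain ⟨a, ha, hax⟩ := hx'
    obtain ⟨p, hp1, hp2⟩ := exists_point_of_isPullback sqW x' (Points.ofScheme (G.obj j) a)
      (by rw [← hax, Points.ofPt_eq_map_ofScheme])
    obtain ⟨w', rfl⟩ := (Points.schemeEquiv W).surjective p
    change Points.map z (Points.ofScheme W w') = x' at hp1
    change Points.map ((yon S).map (pp j)) (Points.ofScheme W w') = _ at hp2
    rw [← Points.ofPt_eq_map_ofScheme] at hp1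
    rw [← Points.ofPt_eq_map_ofScheme, ofScheme_map] at hp2
    have hpa : (pp j).left w' = a := (Points.schemeEquiv (G.obj j)).injective hp2
    rw [hpp] at hpa
    obtain ⟨w'', hw'', hu''⟩ := hsub (show u₀ w' ∈ L.π.app j ⁻¹' A by
      show L.π.app j (u₀ w') ∈ A
      have : L.π.app j (u₀ w') = a := hpa
      rwa [this])
    rw [← hp1, ← u₀.homeomorph.injective hu'']
    exact hw''

theorem topology_lim {I : Type u} [SmallCategory I] [IsCofiltered I] (D : I ⥤ Sp S)
    (hD : ∀ i, IsAlgSpace (D.obj i)) (hDa : ∀ (i j : I) (φ : i ⟶ j), IsAffineMor (D.map φ))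
    (c : Cone D) (hc : IsLimit c) :
    Points.topologicalSpace c.pt =
      ⨅ i, TopologicalSpace.induced (Points.map (c.π.app i)) (Points.topologicalSpace (D.obj i)) := by
  refine le_antisymm (le_iInf fun i => continuous_iff_le_induced.1 (Points.continuous_map _)) fun O hO => ?_
  let t := ⨅ i, TopologicalSpace.induced (Points.map (c.π.app i)) (Points.topologicalSpace (D.obj i))
  have hU : O = ⋃₀ {B : Set (Points c.pt) | IsOpen[t] B ∧ B ⊆ O} := by
    refine Set.Subset.antisymm (fun x hx => ?_) (Set.sUnion_subset fun B hB => hB.2)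
    obtain ⟨i, A, hA, hxA, hsub⟩ := exists_stage_nhd D hD hDa c hc hO hx
    exact ⟨_, ⟨(iInf_le (fun i => TopologicalSpace.induced (Points.map (c.π.app i))
      (Points.topologicalSpace (D.obj i))) i) _ ⟨A, hA, rfl⟩, hsub⟩, hxA⟩
  rw [hU]
  exact @isOpen_sUnion _ t _ fun B hB => hB.1

theorem closure_point_lim {I : Type u} [SmallCategory I] [IsCofiltered I] (D : I ⥤ Sp S)
    (hD : ∀ i, IsAlgSpace (D.obj i)) (hDa : ∀ (i j : I) (φ : i ⟶ j), IsAffineMor (D.map φ))
    (c : Cone D) (hc : IsLimit c) (x : Points c.pt) :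
    closure {x} = {x' | ∀ i, Points.map (c.π.app i) x' ∈ closure {Points.map (c.π.app i) x}} := by
  refine Set.Subset.antisymm (fun x' hx' i => ?_) fun x' hx' => mem_closure_iff.2 fun O hO hxO => ?_
  · have := image_closure_subset_closure_image (Points.continuous_map (c.π.app i)) ⟨x', hx', rfl⟩
    rwa [Set.image_singleton] at this
  · obtain ⟨i, A, hA, hxA, hsub⟩ := exists_stage_nhd D hD hDa c hc hO hxO
    obtain ⟨y, hy1, rfl⟩ := mem_closure_iff.1 (hx' i) A hA hxA
    exact ⟨x, hsub hy1, rfl⟩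

theorem isLimit_redInduced_closure {I : Type u} [SmallCategory I] [IsCofiltered I] (D : I ⥤ Sp S)
    (hD : ∀ i, IsAlgSpace (D.obj i)) (hDa : ∀ (i j : I) (φ : i ⟶ j), IsAffineMor (D.map φ))
    (c : Cone D) (hc : IsLimit c) (x : Points c.pt) {Z : Sp S} (hZ : IsAlgSpace Z) (zι : Z ⟶ c.pt)
    (hzι : IsRedInduced (closure {x}) zι) (DZ : I ⥤ Sp S) (hDZ : ∀ i, IsAlgSpace (DZ.obj i)) (ι : DZ ⟶ D)
    (hι : ∀ i, IsRedInduced (closure {Points.map (c.π.app i) x}) (ι.app i))
    (ξ : (Functor.const I).obj Z ⟶ DZ) (hξ : ∀ i, ξ.app i ≫ ι.app i = zι ≫ c.π.app i) :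
    Nonempty (IsLimit (Cone.mk Z ξ)) := by
  let cZ := limit.cone DZ
  let g : cZ.pt ⟶ c.pt := hc.lift ((Cone.postcompose ι).obj cZ)
  have hg : ∀ i, g ≫ c.π.app i = cZ.π.app i ≫ ι.app i := fun i => hc.fac _ i
  have hgc : RepWith @IsClosedImmersion g :=
    repWith_closed_lim ι (fun i => (hι i).1) cZ (limit.isLimit DZ) c hc g hg
  have hca : IsAlgSpace c.pt := isAlgSpace_lim D hD hDa c hc
  have hDZa : ∀ (i j : I) (φ : i ⟶ j), IsAffineMor (DZ.map φ) := fun i j φ => by
    have := mono_of_closed (hι j).1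
    refine (isAffineMor_iff_repWith _).2 (repWith_of_comp_mono (m := ι.app j) ?_)
    rw [ι.naturality φ]
    exact repWith_comp (repWith_mono (fun _ _ r hr => by
      have : IsClosedImmersion r := hr
      infer_instance) (hι i).1) ((isAffineMor_iff_repWith _).1 (hDa i j φ))
  have hZ' : IsAlgSpace cZ.pt := isAlgSpace_lim DZ hDZ hDZa cZ (limit.isLimit DZ)
  have hred : IsReducedSp cZ.pt := isReducedSp_lim DZ hDZ hDZa cZ (limit.isLimit DZ) fun i => (hι i).2.2
  let u : Z ⟶ cZ.pt := (limit.isLimit DZ).lift (Cone.mk Z ξ)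
  have hu : ∀ i, u ≫ cZ.π.app i = ξ.app i := fun i => (limit.isLimit DZ).fac _ i
  have hug : u ≫ g = zι := hc.hom_ext fun i => by rw [Category.assoc, hg, reassoc_of% (hu i), hξ]
  obtain ⟨k, hk⟩ := exists_factor_of_reduced hzι.1 hZ' hca hred (f := g) (by
    rw [hzι.2.1]
    rintro _ ⟨y, rfl⟩
    rw [closure_point_lim D hD hDa c hc x]
    intro i
    rw [← Points.map_comp, hg, Points.map_comp, ← (hι i).2.1]
    exact ⟨_, rfl⟩)
  have := mono_of_closed hgc
  have := mono_of_closed hzι.1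
  have hku : k ≫ u = 𝟙 _ := (cancel_mono g).1 (by rw [Category.assoc, hug, hk, Category.id_comp])
  have huk : u ≫ k = 𝟙 _ := (cancel_mono zι).1 (by rw [Category.assoc, hk, hug, Category.id_comp])
  exact ⟨IsLimit.ofIsoLimit (limit.isLimit DZ) (Cone.ext (⟨k, u, hku, huk⟩ : cZ.pt ≅ Z) fun i => by
    show cZ.π.app i = k ≫ ξ.app i
    rw [← hu i, reassoc_of% hku])⟩

end Groth.Agent.SchImg
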