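import Groth.Agent.SchImg.Reduced
import Groth.Agent.AlgSpLib.FpqcProps
import Groth.Prelude.Def_AlgSpMor5

/-!
# The relative normalization of a reduced space is reduced
-/

set_option autoImplicit false

universe u

open CategoryTheory CategoryTheory.Limits AlgebraicGeometry

set_option backward.isDefEq.respectTransparency false

namespace Groth.Agent.SchImg

open _root_.AlgSp Groth.Agent.AlgSpLib

variable {S : Scheme.{u}} {X Y X' : Sp S}

theorem isReducedSp_relNormalization (hY : IsAlgSpace Y) (hX' : IsAlgSpace X') {f : Y ⟶ X} {ν : X' ⟶ X}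
    {f' : Y ⟶ X'} (hn : IsRelNormalization f ν f') (hred : IsReducedSp Y) : IsReducedSp X' := by
  obtain ⟨hf, hν, huniv⟩ := hn
  obtain ⟨Z, i, hZ, hi⟩ := SpQS.exists_redInduced hX' (T := Set.univ) isClosed_univ
  have hii : RepWith @IsIntegralHom i := repWith_mono (fun _ _ r hr => by
    have : IsClosedImmersion r := hr
    infer_instance) hi.1
  have hνi : IsIntegralMor (i ≫ ν) :=
    (isIntegralMor_iff_repWith _).2 (repWith_comp hii ((isIntegralMor_iff_repWith ν).1 hν))
  obtain ⟨g, hg⟩ := exists_factor_of_reduced hi.1 hY hX' hred (f := f') (by rw [hi.2.1]; exact Set.subset_univ _)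
  obtain ⟨h, ⟨hh1, hh2⟩, -⟩ := huniv hZ (i ≫ ν) g hνi (by rw [reassoc_of% hg, hf])
  obtain ⟨k, -, hk⟩ := huniv hX' ν f' hν hf
  have he : h ≫ i = 𝟙 X' :=
    (hk _ ⟨by rw [reassoc_of% hh1, hg], by rw [Category.assoc, hh2]⟩).trans
      (hk _ ⟨Category.comp_id _, Category.id_comp _⟩).symm
  have := mono_of_closed hi.1
  have : IsIso i := ⟨h, (cancel_mono i).1 (by rw [Category.assoc, he, Category.comp_id, Category.id_comp]), he⟩
  obtain ⟨U, a, ha, has, hU⟩ := hi.2.2
  refine ⟨U, a ≫ i, repWith_comp ha ?_, repWith_comp has ?_, hU⟩ <;>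
    exact MorphismProperty.of_isIso _ i

end Groth.Agent.SchImg
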