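import Groth.Agent.SchImg.CartierSk
import Groth.Agent.Catenary.NormalDepth
import Groth.Prelude.Def_Pi1

/-!
# Normal local rings satisfy (S_2)
-/

set_option autoImplicit false

universe u

set_option backward.isDefEq.respectTransparency false

namespace Groth.Agent.SchImg

open IsLocalRing

theorem skIneq_two_of_normal (A : Type u) [CommRing A] [IsLocalRing A] [IsNoetherianRing A] [IsDomain A]
    [IsIntegrallyClosed A] :
    min ((2 : ℕ) : WithBot ℕ∞) (ringKrullDim A) ≤ ((LocCoh.depth A A : ℕ∞) : WithBot ℕ∞) := by
  obtain ⟨n, hn⟩ := exists_eq_ringKrullDim_of_isLocalRing' A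
  by_cases h1 : ringKrullDim A ≤ 1
  · refine (min_le_right _ _).trans ?_
    rw [hn] at h1 ⊢
    have hn1 : n ≤ 1 := by exact_mod_cast h1
    interval_cases n
    · exact WithBot.coe_le_coe.2 zero_le
    · have hne : maximalIdeal A ≠ ⊥ := fun e => by
        have h := maximalIdeal_height_eq_ringKrullDim (R := A)
        rw [e, Ideal.height_bot, hn] at h
        exact zero_ne_one (α := ℕ∞) (WithBot.coe_injective h)
      obtain ⟨x, hx, hx0⟩ := Submodule.exists_mem_ne_zero_of_ne_bot hne
      have h := S0320.result A (maximalIdeal A) A (by simpa using (maximalIdeal.isMaximal A).ne_top) x hx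
        (fun a b hab => mul_left_cancel₀ hx0 hab)
      refine WithBot.coe_le_coe.2 ?_
      show (1 : ℕ∞) ≤ LocCoh.idealDepth (maximalIdeal A) A
      rw [← h]
      exact le_add_self
  · exact (min_le_left _ _).trans (WithBot.coe_le_coe.2 (Catenary.two_le_depth_of_normal h1))

end Groth.Agent.SchImg
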