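import Groth.Agent.SepFam.Poly
import Groth.Agent.SepFam.Basic
import Mathlib.RingTheory.Etale.StandardEtale
import Mathlib.RingTheory.Localization.BaseChange
import Mathlib.RingTheory.AdjoinRoot

/-!
# Separation survives standard etale base change
-/

set_option autoImplicit false
set_option backward.isDefEq.respectTransparency false
set_option linter.style.haveILetI false

universe u

open TensorProduct Polynomial

namespace Groth.Agent.SchImg

open Groth.Agent.SepFam

variable {B : Type u} [CommRing B] {M : Type u} [AddCommGroup M] [Module B M] {ι : Type u}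
  {N : ι → Type u} [∀ i, AddCommGroup (N i)] [∀ i, Module B (N i)] (u : ∀ i, M →ₗ[B] N i)

/-- separation survives inverting an element -/
theorem sepBC_localization (C : Type u) [CommRing C] [Algebra B C] (g : B) [IsLocalization.Away g C]
    (h : Sep u) : SepBC u C := by
  intro r w hw
  obtain ⟨⟨m, s⟩, hs⟩ := IsLocalizedModule.surj (Submonoid.powers g) (TensorProduct.mk B C M 1) w
  obtain ⟨⟨r₀, s'⟩, hr⟩ := IsLocalization.surj (Submonoid.powers g) r
  have key : ∀ (n : ℕ), algebraMap B C (r₀ ^ n) • (algebraMap B C (s : B) • w) = (1 : C) ⊗ₜ[B] (r₀ ^ n • m) := by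
    intro n
    have hs' : (s : B) • w = (1 : C) ⊗ₜ[B] m := hs
    rw [algebraMap_smul, algebraMap_smul, hs', TensorProduct.tmul_smul]
  have hu : ∀ t : Submonoid.powers g, IsUnit (algebraMap B C (t : B)) :=
    fun t => IsLocalization.map_units C t
  have hv : ∀ i, ∃ n : ℕ, (g * r₀) ^ n • u i m = 0 := by
    intro i
    obtain ⟨n, hn⟩ := hw i
    have h2 := congrArg ((u i).baseChange C) (key n)
    rw [map_smul, map_smul, LinearMap.baseChange_tmul, map_smul, smul_smul,
      map_pow, ← hr, mul_pow, mul_comm (r ^ n), mul_assoc, mul_comm _ (algebraMap B C (s : B)), ← mul_assoc,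
      mul_smul, hn, smul_zero] at h2
    obtain ⟨⟨_, k, rfl⟩, hk⟩ := (IsLocalizedModule.eq_zero_iff (Submonoid.powers g) (TensorProduct.mk B C (N i) 1)).1 h2.symm
    refine ⟨n + k, ?_⟩
    have hk' : g ^ k • r₀ ^ n • u i m = 0 := hk
    rw [mul_pow, pow_add g, pow_add r₀, show g ^ n * g ^ k * (r₀ ^ n * r₀ ^ k) = g ^ n * r₀ ^ k * (g ^ k * r₀ ^ n) by ring,
      mul_smul, mul_smul (g ^ k), hk', smul_zero]
  obtain ⟨n, hn⟩ := h (g * r₀) m hv
  refine ⟨n, ?_⟩
  have h0 : algebraMap B C ((g * r₀) ^ n) • (algebraMap B C (s : B) • w) = 0 := by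
    have hs' : (s : B) • w = (1 : C) ⊗ₜ[B] m := hs
    rw [algebraMap_smul, algebraMap_smul, hs', ← TensorProduct.tmul_smul, hn, TensorProduct.tmul_zero]
  rw [smul_smul, map_pow, map_mul, ← hr, mul_pow, mul_pow,
    show algebraMap B C g ^ n * (r ^ n * algebraMap B C (s' : B) ^ n) * algebraMap B C (s : B) =
      (algebraMap B C g ^ n * algebraMap B C (s' : B) ^ n * algebraMap B C (s : B)) * r ^ n by ring, mul_smul] at h0
  exact ((((hu ⟨g, 1, pow_one g⟩).pow n).mul ((hu s').pow n)).mul (hu s)).smul_eq_zero.1 h0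

/-- separation survives standard etale base change -/
theorem sepBC_standardEtale (C : Type u) [CommRing C] [Algebra B C] [Algebra.IsStandardEtale B C]
    (h : Sep u) : SepBC u C := by
  obtain ⟨P⟩ := Algebra.IsStandardEtale.nonempty_standardEtalePresentation (R := B) (S := C)
  let A := AdjoinRoot P.f
  haveI : Module.Free B A := P.monic_f.free_adjoinRoot
  haveI : Module.Finite B A := P.monic_f.finite_adjoinRoot
  let g : A := AdjoinRoot.mk P.f P.g
  refine sepBC_of_algEquiv u ((P.equivRing.trans P.P.equivAwayAdjoinRoot).symm) ?_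
  exact sepBC_trans u (C := A) (C' := Localization.Away g)
    (sepBC_localization (fun i => (u i).baseChange A) _ g (sepBC_of_free_of_integral u A h))

end Groth.Agent.SchImg
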