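import Groth.Agent.SchImg.ClosedSub

/-!
# Invariant subschemes of a chart descend
-/

set_option autoImplicit false

universe u

open CategoryTheory CategoryTheory.Limits AlgebraicGeometry

set_option backward.isDefEq.respectTransparency false

namespace Groth.Agent.SchImg

open _root_.AlgSp Groth.Agent.AlgSpLib

variable {S : Scheme.{u}} {X : Sp S}

/-- an invariant immersion into a chart descends to an immersion into the space -/
theorem exists_sub_of_invariant (hX : IsAlgSpace X) {U R : Over S} {π : (yon S).obj U ⟶ X}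
    (hπ : RepWith @Etale π) (hπs : RepWith @Surjective π) {t s : R ⟶ U}
    (sqR : IsPullback ((yon S).map t) ((yon S).map s) π π) {ZU : Over S} (j : ZU ⟶ U) [IsImmersion j.left]
    (hswap : ∀ ⦃T' : Over S⦄ (ρ : T' ⟶ R) (l : T' ⟶ ZU), l ≫ j = ρ ≫ t → ∃ l' : T' ⟶ ZU, l' ≫ j = ρ ≫ s) :
    ∃ (Z : Sp S) (i : Z ⟶ X) (q : (yon S).obj ZU ⟶ Z), IsAlgSpace Z ∧ RepWith @IsImmersion i ∧
      IsPullback q ((yon S).map j) i π ∧ (IsClosedImmersion j.left → RepWith @IsClosedImmersion i) ∧
      (IsOpenImmersion j.left → RepWith @IsOpenImmersion i) := by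
  let c : (yon S).obj ZU ⟶ X := (yon S).map j ≫ π
  let i : Sheaf.image c ⟶ X := Sheaf.imageι c
  let e : (yon S).obj ZU ⟶ Sheaf.image c := Sheaf.toImage c
  have hei : e ≫ i = (yon S).map j ≫ π := Sheaf.toImage_ι c
  have : Mono i := inferInstanceAs (Mono (Sheaf.imageι c))
  have : Mono j.left := inferInstance
  have : Mono j := mono_of_left j
  have : Sheaf.IsLocallySurjective e :=
    (Sheaf.isLocallySurjective_iff_epi' _ e).2 (inferInstanceAs (Epi (Sheaf.toImage c)))
  have sq : IsPullback e ((yon S).map j) i π := by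
    refine isPullback_of_points hei fun T' a b hab => ?_
    obtain ⟨b, rfl⟩ := exists_map_eq b
    obtain ⟨W, jW, bW, sqW⟩ : ∃ (W : Over S) (jW : W ⟶ T') (bW : W ⟶ ZU),
        IsPullback bW.left jW.left j.left b.left :=
      ⟨Over.mk (pullback.snd j.left b.left ≫ T'.hom), Over.homMk (pullback.snd j.left b.left) rfl,
        Over.homMk (pullback.fst j.left b.left) (by
          show pullback.fst j.left b.left ≫ ZU.hom = pullback.snd j.left b.left ≫ T'.hom
          rw [← Over.w j, pullback.condition_assoc, Over.w b]), IsPullback.of_hasPullback _ _⟩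
    have sqW' : IsPullback ((yon S).map bW) ((yon S).map jW) ((yon S).map j) ((yon S).map b) :=
      isPullback_yon_iff.2 sqW
    have : Mono ((yon S).map jW) := sqW'.mono_snd_of_mono
    let q := pullback.snd e a
    have : Sheaf.IsLocallySurjective q :=
      isLocallySurjective_of_isPullback (IsPullback.of_hasPullback e a).flip
    have hq : ∃ l : pullback e a ⟶ (yon S).obj W, l ≫ (yon S).map jW = q := by
      let ρ := sqR.lift (pullback.fst e a ≫ (yon S).map j) (q ≫ (yon S).map b) (by
        rw [Category.assoc, Category.assoc, ← hei, ← hab, reassoc_of% (pullback.condition (f := e) (g := a))])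
      refine SpQS.exists_lift_mono q _ fun T'' z => ?_
      obtain ⟨ρ', hρ'⟩ := exists_map_eq (z ≫ ρ)
      obtain ⟨u', hu'⟩ := exists_map_eq (z ≫ pullback.fst e a)
      obtain ⟨l', hl'⟩ := hswap ρ' u' ((yon S).map_injective (by
        rw [Functor.map_comp, Functor.map_comp, hρ', hu', Category.assoc, Category.assoc, sqR.lift_fst]))
      refine ⟨sqW'.lift ((yon S).map l') (z ≫ q) ?_, sqW'.lift_snd _ _ _⟩
      rw [← Functor.map_comp, hl', Functor.map_comp, hρ', Category.assoc, Category.assoc, sqR.lift_snd]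
    obtain ⟨l, hl⟩ := hq
    have : Epi q := (Sheaf.isLocallySurjective_iff_epi' _ q).1 ‹_›
    have : Epi ((yon S).map jW) := epi_of_epi_fac hl
    have : IsIso ((yon S).map jW) := isIso_of_mono_of_epi _
    have hcan : ∀ k : (yon S).obj T' ⟶ (yon S).obj ZU, k ≫ (yon S).map j = (yon S).map b → k ≫ e = a := fun k hk => by
      rw [← cancel_mono i, Category.assoc, hei, reassoc_of% hk, hab]
    refine ⟨inv ((yon S).map jW) ≫ (yon S).map bW, ⟨hcan _ ?_, ?_⟩, fun k hk => ?_⟩
    · rw [Category.assoc, sqW'.w, IsIso.inv_hom_id_assoc]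
    · rw [Category.assoc, sqW'.w, IsIso.inv_hom_id_assoc]
    · rw [← cancel_mono ((yon S).map j), hk.2, Category.assoc, sqW'.w, IsIso.inv_hom_id_assoc]
  have hcov : IsFppfCover (fun _ : PUnit.{u + 1} => (yon S).obj U) (fun _ => π) :=
    ⟨fun _ => ⟨(locP_iff_repWith etST_flat hX hπ.1).2 (repWith_mono (fun _ _ r hr => by
        have : Etale r := hr
        infer_instance) hπ),
      (locP_iff_repWith etST_lfp hX hπ.1).2 (repWith_mono (fun _ _ r hr => by
        have : Etale r := hr
        infer_instance) hπ)⟩, fun x => ⟨PUnit.unit, isSurjectiveMor_of_repWith hπs x⟩⟩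
  have hi : RepWith @IsImmersion i := repWith_of_fppfCover @IsImmersion
    (fun _ _ r hr => by
      have : IsImmersion r := hr
      exact QA.IndQA.of_isImmersion r) hX (fun _ => IsAlgSpace.yon_obj U) hcov i (fun _ => (yon S).obj ZU)
    (fun _ => (yon S).map j) (fun _ => e) (fun _ => sq) (fun _ => (repWith_yon_iff j).2 ‹_›)
  refine ⟨_, i, e, isAlgSpace_of_repBySp (Representable.repBySp hi.1) hX, hi, sq, fun hc => ?_, fun ho => ?_⟩
  · exact repWith_of_fppfCover @IsClosedImmersion
      (fun _ _ r hr => by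
        have : IsClosedImmersion r := hr
        exact QA.IndQA.of_isImmersion r) hX (fun _ => IsAlgSpace.yon_obj U) hcov i (fun _ => (yon S).obj ZU)
      (fun _ => (yon S).map j) (fun _ => e) (fun _ => sq) (fun _ => (repWith_yon_iff j).2 hc)
  · exact repWith_of_fppfCover @IsOpenImmersion
      (fun _ _ r hr => by
        have : IsOpenImmersion r := hr
        exact QA.IndQA.of_isImmersion r) hX (fun _ => IsAlgSpace.yon_obj U) hcov i (fun _ => (yon S).obj ZU)
      (fun _ => (yon S).map j) (fun _ => e) (fun _ => sq) (fun _ => (repWith_yon_iff j).2 ho)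

end Groth.Agent.SchImg
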